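import Cfsg.Agent.Classical.PrimeDerangement.PolarPairGU.Pairs
import Cfsg.Agent.Classical.Unitary.Transvection
import Cfsg.Agent.Classical.Unitary.Order
import Cfsg.Agent.Classical.Unitary.Blocks
import Cfsg.Agent.Classical.Semisimple.PrimeOrder

/-!
Which prime orders in special unitary groups are covered by the stabilisers of complementary totally singular pairs.
-/

set_option autoImplicit false
set_option maxHeartbeats 800000

namespace CfsgLib.Classical.PrimeDerangement.PolarPairGU

open Cfsg Matrix Module CfsgLib.Unitary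

variable {F : Type*} [Field F] {n m q : ℕ}

local notation "V" => (Fin n → F)

/-- An element with anisotropic moved space preserves no pair. -/
theorem not_preserves {x : GL (Fin n) F} {c : F} {M : Submodule F V}
    (hrange : ∀ v, (x : Matrix (Fin n) (Fin n) F) *ᵥ v - c • v ∈ M)
    (hM : ∀ S : Submodule F V, S ≤ M → (∀ v ∈ S, (x : Matrix (Fin n) (Fin n) F) *ᵥ v ∈ S) → S ≠ ⊥ →
      ∃ v ∈ S, hermForm n F q v v ≠ 0)
    (hMx : ∀ v ∈ M, (x : Matrix (Fin n) (Fin n) F) *ᵥ v ∈ M)
    (hne : (x : Matrix (Fin n) (Fin n) F) ≠ c • 1) {U W : Submodule F V} (hp : Polar q U W)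
    (hswap : U.map (Matrix.toLin' (x : Matrix (Fin n) (Fin n) F)) ≠ W) : ¬ Preserves x U W := by
  rintro (⟨hU, hW⟩ | ⟨hUW, -⟩)
  · have fixed : ∀ S : Submodule F V, S.map (Matrix.toLin' (x : Matrix (Fin n) (Fin n) F)) = S →
        (∀ u ∈ S, ∀ v ∈ S, hermForm n F q u v = 0) → ∀ v ∈ S, (x : Matrix (Fin n) (Fin n) F) *ᵥ v = c • v := by
      intro S hS hts v hv
      have hxS : ∀ w ∈ S, (x : Matrix (Fin n) (Fin n) F) *ᵥ w ∈ S := fun w hw => by
        rw [← hS]; exact ⟨w, hw, Matrix.toLin'_apply _ _⟩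
      by_cases hbot : S ⊓ M = ⊥
      · have h := (Submodule.eq_bot_iff _).1 hbot _ ⟨S.sub_mem (hxS v hv) (S.smul_mem c hv), hrange v⟩
        exact sub_eq_zero.1 h
      · obtain ⟨w, hw, hw0⟩ := hM (S ⊓ M) inf_le_right (fun w hw => ⟨hxS w hw.1, hMx w hw.2⟩) hbot
        exact absurd (hts w hw.1 w hw.1) hw0
    refine hne (Matrix.toLin'.injective (LinearMap.ext fun v => ?_))
    obtain ⟨u, hu, w, hw, rfl⟩ := Submodule.mem_sup.1 (hp.compl.sup_eq_top ▸ Submodule.mem_top : v ∈ U ⊔ W)
    rw [Matrix.toLin'_apply, Matrix.toLin'_apply, Matrix.smul_mulVec, Matrix.one_mulVec, Matrix.mulVec_add,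
      fixed U hU hp.left u hu, fixed W hW hp.right w hw, smul_add]
  · exact hswap hUW

/-- An element with small moved space does not swap a pair. -/
theorem not_swap_of_rank {x : GL (Fin n) F} {c : F} {M : Submodule F V}
    (hrange : ∀ v, (x : Matrix (Fin n) (Fin n) F) *ᵥ v - c • v ∈ M) {U W : Submodule F V} (hp : Polar q U W)
    (hlt : finrank F M < finrank F U) : U.map (Matrix.toLin' (x : Matrix (Fin n) (Fin n) F)) ≠ W := by
  intro hUW
  let L : U →ₗ[F] M :=
    LinearMap.codRestrict M ((Matrix.toLin' (x : Matrix (Fin n) (Fin n) F) - c • LinearMap.id).comp U.subtype)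
      fun u => by simpa using hrange u
  have hinj : Function.Injective L := by
    refine LinearMap.ker_eq_bot.1 (LinearMap.ker_eq_bot'.2 fun u hu => Subtype.ext ?_)
    have h : (x : Matrix (Fin n) (Fin n) F) *ᵥ (u : V) - c • (u : V) = 0 := by
      simpa [L] using congrArg Subtype.val hu
    have hmem : c • (u : V) ∈ W := by
      rw [← sub_eq_zero.1 h, ← hUW]
      exact ⟨u, u.2, Matrix.toLin'_apply _ _⟩
    have h0 := Submodule.disjoint_def.1 hp.compl.disjoint _ (U.smul_mem c u.2) hmem
    rw [h0, sub_zero] at h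
    have h' := congrArg (fun v => ((x⁻¹ : GL (Fin n) F) : Matrix (Fin n) (Fin n) F) *ᵥ v) h
    simpa [Matrix.mulVec_mulVec] using h'
  have := LinearMap.finrank_le_finrank_of_injective hinj
  omega

/-- An element with scalar odd power does not swap a pair. -/
theorem not_swap_of_odd {x : GL (Fin n) F} {r : ℕ} (hr : Odd r) {z : F} (hz0 : z ≠ 0)
    (hz : ((x ^ r : GL (Fin n) F) : Matrix (Fin n) (Fin n) F) = z • 1) {U W : Submodule F V} (hp : Polar q U W)
    (hU : U ≠ ⊥) : ¬ (U.map (Matrix.toLin' (x : Matrix (Fin n) (Fin n) F)) = W ∧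
      W.map (Matrix.toLin' (x : Matrix (Fin n) (Fin n) F)) = U) := by
  rintro ⟨h1, h2⟩
  have hev : ∀ k : ℕ, U.map (Matrix.toLin' ((x ^ (2 * k + 1) : GL (Fin n) F) : Matrix (Fin n) (Fin n) F)) = W := by
    intro k
    induction k with
    | zero => simpa using h1
    | succ k ih =>
      rw [show 2 * (k + 1) + 1 = 1 + (1 + (2 * k + 1)) by ring, pow_add x 1, pow_one, map_toLin_mul, pow_add x 1,
        pow_one, map_toLin_mul, ih, h2, h1]
  obtain ⟨k, rfl⟩ := hr
  have h3 := hev k
  rw [hz, map_smul, Matrix.toLin'_one, Submodule.map_smul _ _ _ hz0, Submodule.map_id] at h3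
  refine hU ?_
  have h4 := hp.compl.disjoint
  rw [← h3, disjoint_self] at h4
  exact h4

variable [Fintype F]

/-- A transvection preserves no pair. -/
theorem exists_derangement_p (hF : Fintype.card F = q ^ 2) {p : ℕ} [CharP F p] (hn : 4 ≤ n) (hm : n = 2 * m) :
    ∃ x ∈ GU n F q ⊓ Geo.specialLinear (Fin n) F, x ^ p = 1 ∧ x ≠ 1 ∧
      ∀ U W : Submodule F V, Polar q U W → ¬ Preserves x U W := by
  classical
  obtain ⟨ε, hε⟩ := exists_norm_eq hF (a := (-1 : F)) (by rw [neg_pow_q hF, one_pow])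
  obtain ⟨δ, hδ0, hδ⟩ := exists_trace_zero_ne_zero hF
  set v : V := Pi.single ⟨0, by omega⟩ 1 + ε • Pi.single ⟨1, by omega⟩ 1 with hv
  have hvv : hermForm n F q v v = 0 := by
    rw [hv, herm_add_left, herm_add_right hF, herm_add_right hF, herm_smul_left, herm_smul_left, herm_smul_right,
      herm_smul_right, herm_single_single hF, herm_single_single hF, herm_single_single hF, herm_single_single hF]
    simp only [Fin.mk.injEq]
    norm_num
    linear_combination hε
  have hv0 : v ≠ 0 := fun h => by simpa [hv, Pi.single_apply, Fin.ext_iff] using congrFun h ⟨0, by omega⟩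
  set x : GL (Fin n) F := Matrix.GeneralLinearGroup.mk'' (unitaryTransvection n q v δ) (by
    rw [transv_det hvv]; exact isUnit_one) with hx
  have hxv : (x : Matrix (Fin n) (Fin n) F) = unitaryTransvection n q v δ := rfl
  have happ : ∀ y, (x : Matrix (Fin n) (Fin n) F) *ᵥ y = y + (δ * hermForm n F q y v) • v := fun y => by
    rw [hxv, unitaryTransvection_eq, rankOne_mulVec, smul_smul, mul_comm]
  set N := (x : Matrix (Fin n) (Fin n) F) - 1 with hN
  have hNapp : ∀ y, N *ᵥ y = (δ * hermForm n F q y v) • v := fun y => by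
    rw [hN, Matrix.sub_mulVec, happ, Matrix.one_mulVec, add_sub_cancel_left]
  have hNN : N * N = 0 := Matrix.mulVec_injective (funext fun y => by
    rw [← Matrix.mulVec_mulVec, hNapp, hNapp, herm_smul_left, hvv, mul_zero, mul_zero, zero_smul,
      Matrix.zero_mulVec])
  have hpow : ∀ k : ℕ, ((x ^ k : GL (Fin n) F) : Matrix (Fin n) (Fin n) F) = 1 + (k : F) • N := by
    intro k
    induction k with
    | zero => simp
    | succ k ih =>
      rw [pow_succ, Units.val_mul, ih, show (x : Matrix (Fin n) (Fin n) F) = 1 + N by rw [hN]; abel, mul_add, mul_one,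
        add_mul, one_mul, Matrix.smul_mul, hNN, smul_zero, add_zero, Nat.cast_succ, add_smul, one_smul, add_assoc]
  obtain ⟨y₀, hy₀⟩ : ∃ y, hermForm n F q v y ≠ 0 := by
    by_contra h
    push Not at h
    exact hv0 (herm_nondeg hF v h)
  have hy₀' : hermForm n F q y₀ v ≠ 0 := fun h => hy₀ (herm_eq_zero_comm hF h)
  refine ⟨x, ⟨mem_GU.2 (by rw [hxv]; exact transv_preserves hF hvv hδ), Units.ext (by
      show (x : Matrix (Fin n) (Fin n) F).det = 1
      rw [hxv]; exact transv_det hvv δ)⟩,
    Units.ext (by rw [hpow, CharP.cast_eq_zero, zero_smul, add_zero, Units.val_one]), fun h => ?_,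
    fun U W hp => ?_⟩
  · have h1 := hNapp y₀
    rw [hN, h, Units.val_one, sub_self, Matrix.zero_mulVec] at h1
    exact hv0 ((smul_eq_zero.1 h1.symm).resolve_left (mul_ne_zero hδ0 hy₀'))
  obtain ⟨-, hUn⟩ := finrank_polar hF hp
  have hswap : U.map (Matrix.toLin' (x : Matrix (Fin n) (Fin n) F)) ≠ W := by
    refine not_swap_of_rank (c := 1) (M := F ∙ v) (fun y => ?_) hp ?_
    · rw [happ, one_smul, add_sub_cancel_left]
      exact Submodule.smul_mem _ _ (Submodule.mem_span_singleton_self v)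
    · rw [finrank_span_singleton hv0]; omega
  rintro (⟨hU, hW⟩ | ⟨hUW, -⟩)
  swap
  · exact hswap hUW
  have key : ∀ S : Submodule F V, S.map (Matrix.toLin' (x : Matrix (Fin n) (Fin n) F)) = S →
      (∀ w ∈ S, hermForm n F q w v = 0) ∨ v ∈ S := by
    intro S hS
    refine or_iff_not_imp_right.2 fun hvS w hw => ?_
    by_contra hne
    refine hvS ?_
    have h1 : (x : Matrix (Fin n) (Fin n) F) *ᵥ w ∈ S := by
      rw [← hS]; exact ⟨w, hw, Matrix.toLin'_apply _ _⟩
    have h2 := S.sub_mem h1 hw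
    rw [happ, add_sub_cancel_left] at h2
    exact (S.smul_mem_iff (mul_ne_zero hδ0 hne)).1 h2
  have hall : ∀ w, hermForm n F q w v = 0 := by
    intro w
    obtain ⟨a, ha, b, hb, rfl⟩ := Submodule.mem_sup.1 (hp.compl.sup_eq_top ▸ Submodule.mem_top : w ∈ U ⊔ W)
    have hUv : ∀ a ∈ U, hermForm n F q a v = 0 :=
      (key U hU).elim id fun hvU a ha => hp.left a ha v hvU
    have hWv : ∀ b ∈ W, hermForm n F q b v = 0 :=
      (key W hW).elim id fun hvW b hb => hp.right b hb v hvW
    rw [herm_add_left, hUv a ha, hWv b hb, add_zero]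
  exact hy₀' (hall y₀)

variable {r : ℕ} [Fact r.Prime]

/-- A single self-dual block preserves no pair. -/
theorem exists_derangement_odd (hF : Fintype.card F = q ^ 2) (hr2 : r ≠ 2) (hrF : (r : F) ≠ 0) (hn : 4 ≤ n)
    {i : ℕ} (hi : orderOf (Fintype.card F : ZMod r) = i) (hin : i ≤ n) (hdvd : r ∣ Nat.card (GU i F q))
    (hi1 : i = 1 → r ∣ q + 1) :
    ∃ x ∈ GU n F q ⊓ Geo.specialLinear (Fin n) F, x ^ r = 1 ∧ x ≠ 1 ∧
      ∀ U W : Submodule F V, Polar q U W → ¬ Preserves x U W := by
  classical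
  have hrodd := (Fact.out : r.Prime).odd_of_ne_two hr2
  have hi0 : 0 < i := hi ▸ Semisimple.orderOf_card_pos hrF
  have finish : ∀ x ∈ GU n F q, (x : Matrix (Fin n) (Fin n) F).det = 1 → x ^ r = 1 → x ≠ 1 → ∀ M : Submodule F V,
      (∀ v, (x : Matrix (Fin n) (Fin n) F) *ᵥ v - v ∈ M) →
      (∀ S : Submodule F V, S ≤ M → (∀ v ∈ S, (x : Matrix (Fin n) (Fin n) F) *ᵥ v ∈ S) → S ≠ ⊥ →
        ∃ v ∈ S, hermForm n F q v v ≠ 0) →
      ∃ x ∈ GU n F q ⊓ Geo.specialLinear (Fin n) F, x ^ r = 1 ∧ x ≠ 1 ∧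
        ∀ U W : Submodule F V, Polar q U W → ¬ Preserves x U W := by
    intro x hx hdet hxr hx1 M hrange hM
    refine ⟨x, ⟨hx, Units.ext hdet⟩, hxr, hx1, fun U W hp hpres => ?_⟩
    have hU0 : U ≠ ⊥ := by
      intro h
      have := (finrank_polar hF hp).2
      rw [h, finrank_bot] at this
      omega
    have hsw := not_swap_of_odd hrodd one_ne_zero (x := x) (by rw [hxr, Units.val_one, one_smul]) hp hU0
    refine not_preserves (c := 1) (fun v => by rw [one_smul]; exact hrange v) hM (fun v hv => ?_) ?_ hp ?_ hpres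
    · have := M.add_mem (hrange v) hv
      rwa [sub_add_cancel] at this
    · rw [one_smul]
      exact fun h => hx1 (Units.ext h)
    · intro hUW
      rcases hpres with ⟨hU, -⟩ | h
      · refine hU0 ?_
        have h4 := hp.compl.disjoint
        rw [← hUW, hU, disjoint_self] at h4
        exact h4
      · exact hsw h
  by_cases hi1' : i = 1
  · obtain ⟨ω, hω⟩ := exists_prime_orderOf_dvd_card' (G := Fˣ) r (by
      rw [card_units_eq hF]; exact (hi1 hi1').mul_left _)
    have hωr : (ω : F) ^ r = 1 := by rw [← Units.val_pow_eq_pow_val, ← hω, pow_orderOf_eq_one, Units.val_one]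
    have hω1 : (ω : F) ≠ 1 := fun h => (Fact.out : r.Prime).ne_one (by
      rw [← hω, show ω = 1 from Units.ext h, orderOf_one])
    have hωq : (ω : F) ^ (q + 1) = 1 := by
      obtain ⟨c, hc⟩ := hi1 hi1'
      rw [hc, pow_mul, hωr, one_pow]
    set a : Fin n := ⟨0, by omega⟩
    set b : Fin n := ⟨1, by omega⟩
    have hab : a ≠ b := by simp [a, b, Fin.ext_iff]
    set w : Fin n → F := Function.update (Function.update 1 a (ω : F)) b (ω : F)⁻¹ with hw
    have hwa : w a = ω := by simp [hw, hab]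
    have hwb : w b = (ω : F)⁻¹ := by simp [hw]
    have hwo : ∀ k, k ≠ a → k ≠ b → w k = 1 := fun k h1 h2 => by simp [hw, h1, h2]
    have hwn : ∀ k, w k ^ (q + 1) = 1 := fun k => by
      by_cases h1 : k = a
      · rw [h1, hwa, hωq]
      by_cases h2 : k = b
      · rw [h2, hwb, inv_pow, hωq, inv_one]
      rw [hwo k h1 h2, one_pow]
    set x : GL (Fin n) F := (diagGU w hwn).1 with hx
    have hxv : (x : Matrix (Fin n) (Fin n) F) = Matrix.diagonal w := diagGU_val w hwn
    let M : Submodule F V :=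
      { carrier := {v | ∀ k, k ≠ a → k ≠ b → v k = 0}
        add_mem' := fun {u v} hu hv k h1 h2 => by simp [hu k h1 h2, hv k h1 h2]
        zero_mem' := fun k _ _ => rfl
        smul_mem' := fun c v hv k h1 h2 => by simp [hv k h1 h2] }
    have hne : (ω : F) ≠ (ω : F)⁻¹ := fun h => hω1 (by
      obtain ⟨j, hj⟩ := hrodd
      have h2 : (ω : F) * ω = 1 := by nth_rw 2 [h]; exact mul_inv_cancel₀ ω.ne_zero
      rw [hj, pow_succ, pow_mul, pow_two, h2, one_pow, one_mul] at hωr
      exact hωr)
    refine finish x (diagGU w hwn).2 ?_ (Units.ext ?_) ?_ M (fun v k h1 h2 => ?_) fun S hSM hSx hS0 => ?_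
    · rw [hxv, Matrix.det_diagonal, hw, Finset.prod_update_of_mem (Finset.mem_univ _),
        Finset.prod_update_of_mem (by simp [hab])]
      simp
    · rw [Units.val_pow_eq_pow_val, hxv, Matrix.diagonal_pow, Units.val_one, ← Matrix.diagonal_one]
      congr 1
      funext k
      show w k ^ r = 1
      by_cases h1 : k = a
      · rw [h1, hwa, hωr]
      by_cases h2 : k = b
      · rw [h2, hwb, inv_pow, hωr, inv_one]
      rw [hwo k h1 h2, one_pow]
    · intro h
      have h' := congrArg (fun t : GL (Fin n) F => (t : Matrix (Fin n) (Fin n) F) a a) h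
      simp [hxv, hwa] at h'
      exact hω1 (by rw [h', Units.val_one])
    · simp [hxv, Matrix.mulVec_diagonal, hwo k h1 h2]
    · obtain ⟨v, hv, hv0⟩ := Submodule.exists_mem_ne_zero_of_ne_bot hS0
      have hsing : ∀ u : V, u ∈ M → u b = 0 → u a ≠ 0 → hermForm n F q u u ≠ 0 := by
        intro u hu hb ha
        rw [show u = u a • Pi.single a 1 from funext fun k => by
          by_cases h1 : k = a
          · subst h1; simp
          by_cases h2 : k = b
          · subst h2; simp [hb, h1]
          simp [hu k h1 h2, h1], herm_self_smul, herm_single_single hF, if_pos rfl, mul_one]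
        exact pow_ne_zero _ ha
      by_cases hb : v b = 0
      · refine ⟨v, hv, hsing v (hSM hv) hb fun ha => hv0 (funext fun k => ?_)⟩
        by_cases h1 : k = a
        · subst h1; exact ha
        by_cases h2 : k = b
        · subst h2; exact hb
        exact hSM hv k h1 h2
      · set u := (x : Matrix (Fin n) (Fin n) F) *ᵥ v - (ω : F) • v with hu
        have huS : u ∈ S := S.sub_mem (hSx v hv) (S.smul_mem _ hv)
        have hua : u a = 0 := by simp [hu, hxv, Matrix.mulVec_diagonal, hwa]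
        have hub : u b ≠ 0 := by
          simp only [hu, hxv, Pi.sub_apply, Matrix.mulVec_diagonal, hwb, Pi.smul_apply, smul_eq_mul, ← sub_mul]
          exact mul_ne_zero (sub_ne_zero.2 (Ne.symm hne)) hb
        refine ⟨u, huS, ?_⟩
        rw [show u = u b • Pi.single b 1 from funext fun k => by
          by_cases h2 : k = b
          · subst h2; simp
          by_cases h1 : k = a
          · subst h1; simp [hua, hab]
          simp [hSM huS k h1 h2, h2], herm_self_smul, herm_single_single hF, if_pos rfl, mul_one]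
        exact pow_ne_zero _ hub
  · obtain ⟨A, hA⟩ := exists_prime_orderOf_dvd_card' r hdvd
    set Am : Matrix (Fin i) (Fin i) F := ((A : GL (Fin i) F) : Matrix (Fin i) (Fin i) F) with hAm
    have hAr : Am ^ r = 1 := by
      rw [hAm, ← Units.val_pow_eq_pow_val, ← SubmonoidClass.coe_pow, ← hA, pow_orderOf_eq_one, OneMemClass.coe_one,
        Units.val_one]
    have hA1 : Am ≠ 1 := fun h => (Fact.out : r.Prime).ne_one (by
      rw [← hA, show A = 1 from Subtype.ext (Units.ext h), orderOf_one])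
    have hrq : ¬ r ∣ q + 1 := fun h => hi1' (by
      rw [← hi, orderOf_eq_one_iff, hF, Nat.cast_pow]
      have : (q : ZMod r) + 1 = 0 := by exact_mod_cast (ZMod.natCast_eq_zero_iff (q + 1) r).2 h
      linear_combination ((q : ZMod r) - 1) * this)
    have hdet : Am.det = 1 := by
      have h1 : Am.det ^ r = 1 := by rw [← Matrix.det_pow, hAr, Matrix.det_one]
      have h2 : Am.det ^ (q + 1) = 1 := det_pow_succ_eq_one hF A.2
      have h3 := pow_gcd_eq_one.2 ⟨h1, h2⟩
      rwa [((Fact.out : r.Prime).coprime_iff_not_dvd.2 hrq : Nat.gcd r (q + 1) = 1), pow_one] at h3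
    obtain ⟨l, hl⟩ : ∃ l, i + l = n := ⟨n - i, by omega⟩
    set xg := blockGU hF hl (A, 1) with hxg
    set x : GL (Fin n) F := xg.1 with hx
    have hxv : (x : Matrix (Fin n) (Fin n) F) = blockMat hl (Am, 1) := by
      rw [hx, hxg, blockGU_val]; rfl
    have happ : ∀ v : V, ∀ k, ((x : Matrix (Fin n) (Fin n) F) *ᵥ v) k =
        Sum.elim (Am *ᵥ (v ∘ blockIdx hl ∘ Sum.inl)) (v ∘ blockIdx hl ∘ Sum.inr) ((blockIdx hl).symm k) := by
      intro v k
      rw [hxv]
      show (Matrix.reindex (blockIdx hl) (blockIdx hl) (Matrix.fromBlocks Am 0 0 1) *ᵥ v) k = _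
      rw [Matrix.reindex_apply, Matrix.submatrix_mulVec_equiv, Function.comp_apply, Equiv.symm_symm,
        Matrix.fromBlocks_mulVec]
      simp [Function.comp_assoc]
    let M : Submodule F V :=
      { carrier := {v | ∀ c, v (blockIdx hl (Sum.inr c)) = 0}
        add_mem' := fun {u v} hu hv c => by simp [hu c, hv c]
        zero_mem' := fun c => rfl
        smul_mem' := fun a v hv c => by simp [hv c] }
    refine finish x xg.2 ?_ (Units.ext ?_) ?_ M (fun v c => ?_) fun S hSM hSx hS0 => ?_
    · rw [hxv]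
      show (Matrix.reindex (blockIdx hl) (blockIdx hl) (Matrix.fromBlocks Am 0 0 1)).det = 1
      rw [Matrix.det_reindex_self, Matrix.det_fromBlocks_zero₂₁, hdet, Matrix.det_one, mul_one]
    · rw [Units.val_pow_eq_pow_val, hxv, ← map_pow, Units.val_one,
        show ((Am, 1) : Matrix (Fin i) (Fin i) F × Matrix (Fin l) (Fin l) F) ^ r = 1 from
          Prod.ext hAr (one_pow r), map_one]
    · intro h
      have h' : (x : Matrix (Fin n) (Fin n) F) = 1 := by rw [h, Units.val_one]
      rw [hxv, ← map_one (blockMat (F := F) hl)] at h'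
      exact hA1 (congrArg Prod.fst (blockMat_injective hl h'))
    · rw [Pi.sub_apply, happ]
      simp
    · let π : V →ₗ[F] (Fin i → F) := LinearMap.funLeft F F (blockIdx hl ∘ Sum.inl)
      have hπ : ∀ v, π v = v ∘ blockIdx hl ∘ Sum.inl := fun v => rfl
      have hπinj : ∀ v ∈ M, π v = 0 → v = 0 := fun v hv h => funext fun k => by
        obtain ⟨k, rfl⟩ := (blockIdx hl).surjective k
        rcases k with k | k
        · exact congrFun h k
        · exact hv k
      set S' := S.map π with hS'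
      have hS'inv : ∀ u ∈ S', Am *ᵥ u ∈ S' := by
        rintro _ ⟨v, hv, rfl⟩
        refine ⟨_, hSx v hv, funext fun k => ?_⟩
        rw [hπ, Function.comp_apply, Function.comp_apply, happ]
        simp [hπ]
      obtain ⟨v₀, hv₀, hv₀0⟩ := Submodule.exists_mem_ne_zero_of_ne_bot hS0
      let fS : Module.End F S' := (Matrix.toLin' Am).restrict (fun u hu => by
        rw [Matrix.toLin'_apply]; exact hS'inv u hu)
      have hfpow : ∀ (k : ℕ) (u : S'), ((fS ^ k) u : Fin i → F) = (Am ^ k) *ᵥ (u : Fin i → F) := by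
        intro k
        induction k with
        | zero => intro u; simp
        | succ k ih =>
          intro u
          rw [pow_succ, Module.End.mul_apply, ih, pow_succ, ← Matrix.mulVec_mulVec]
          rfl
      have hfr : fS ^ r = 1 := LinearMap.ext fun u => Subtype.ext (by rw [hfpow, hAr, Matrix.one_mulVec]; rfl)
      have hAfix : ∀ u, Am *ᵥ u = u → u = 0 := by
        intro u hu
        have hr' : (Matrix.toLin' Am) ^ r = 1 := by rw [← Matrix.toLin'_pow, hAr, Matrix.toLin'_one]; rfl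
        obtain ⟨c, hc⟩ := Semisimple.orderOf_dvd_finrank_range hrF hr'
        rw [hi] at hc
        have hc0 : c ≠ 0 := by
          intro h0
          rw [h0, mul_zero, Submodule.finrank_eq_zero, LinearMap.range_eq_bot, one_smul, sub_eq_zero] at hc
          exact hA1 (Matrix.toLin'.injective (hc.trans Matrix.toLin'_one.symm))
        have htop : LinearMap.range (Matrix.toLin' Am - (1 : F) • 1) = ⊤ := by
          refine Submodule.eq_top_of_finrank_eq (le_antisymm (Submodule.finrank_le _) ?_)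
          rw [hc, Module.finrank_fin_fun]
          exact Nat.le_mul_of_pos_right _ (Nat.pos_of_ne_zero hc0)
        have hinj := LinearMap.injective_iff_surjective.2 (LinearMap.range_eq_top.1 htop)
        exact hinj (by simp [hu])
      obtain ⟨c, hc⟩ := Semisimple.orderOf_dvd_finrank_range hrF hfr
      rw [hi] at hc
      have hc0 : c ≠ 0 := by
        intro h0
        rw [h0, mul_zero, Submodule.finrank_eq_zero, LinearMap.range_eq_bot, one_smul] at hc
        have hc : fS = 1 := sub_eq_zero.1 hc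
        refine hv₀0 (hπinj v₀ (hSM hv₀) (hAfix _ ?_))
        have := congrArg Subtype.val (LinearMap.congr_fun hc ⟨π v₀, v₀, hv₀, rfl⟩)
        exact this
      have htop : S' = ⊤ := by
        refine Submodule.eq_top_of_finrank_eq (le_antisymm (Submodule.finrank_le _) ?_)
        rw [Module.finrank_fin_fun]
        exact (Nat.le_mul_of_pos_right _ (Nat.pos_of_ne_zero hc0)).trans (hc ▸ Submodule.finrank_le _)
      obtain ⟨e, he, hee⟩ : ∃ e ∈ S, π e = Pi.single ⟨0, hi0⟩ 1 :=
        (show Pi.single (⟨0, hi0⟩ : Fin i) (1 : F) ∈ S' from htop ▸ Submodule.mem_top)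
      have heq : e = Pi.single (blockIdx hl (Sum.inl ⟨0, hi0⟩)) 1 := funext fun k => by
        obtain ⟨k, rfl⟩ := (blockIdx hl).surjective k
        rcases k with k | k
        · rw [show e (blockIdx hl (Sum.inl k)) = π e k from rfl, hee]
          simp [Pi.single_apply]
        · rw [hSM he k]
          simp [Pi.single_apply]
      exact ⟨e, he, by rw [heq, herm_single_single hF, if_pos rfl]; exact one_ne_zero⟩

/-- Odd primes dividing the index give self-dual blocks of odd dimension. -/
theorem block_of_dvd_relIndex (hF : Fintype.card F = q ^ 2) (hr2 : r ≠ 2) (hrF : (r : F) ≠ 0) (hm : n = 2 * m)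
    (hm0 : 0 < m) {U W : Submodule F V} (hp : Polar q U W) {H : Subgroup (GL (Fin n) F)}
    (hH : ∀ x, Preserves x U W → x ∈ H)
    (hΩ : r ∣ H.relIndex (GU n F q ⊓ Geo.specialLinear (Fin n) F)) :
    orderOf (Fintype.card F : ZMod r) ≤ n ∧ r ∣ Nat.card (GU (orderOf (Fintype.card F : ZMod r)) F q) ∧
      (orderOf (Fintype.card F : ZMod r) = 1 → r ∣ q + 1) := by
  classical
  set i := orderOf (Fintype.card F : ZMod r) with hi
  have hq := two_le_q hF
  have hrp := (Fact.out : r.Prime)
  have hQ : (Fintype.card F : ZMod r) = (q : ZMod r) ^ 2 := by rw [hF, Nat.cast_pow]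
  by_cases hrq : r ∣ q + 1
  · have hi1 : i = 1 := by
      rw [hi, orderOf_eq_one_iff, hQ]
      have : (q : ZMod r) + 1 = 0 := by exact_mod_cast (ZMod.natCast_eq_zero_iff (q + 1) r).2 hrq
      linear_combination ((q : ZMod r) - 1) * this
    refine ⟨by omega, ?_, fun _ => hrq⟩
    rw [hi1, card_GU hF]
    exact dvd_mul_of_dvd_right (by simpa using hrq) _
  obtain ⟨j, hjn, hje, hj⟩ : ∃ j < n, Even j ∧ r ∣ q ^ (j + 1) + 1 := by
    set G := GU n F q
    set S := GU n F q ⊓ Geo.specialLinear (Fin n) F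
    obtain ⟨P⟩ := exists_frame (m := m) hF hp hm
    choose T hT hTU hTW hTL using fun A : GL (Fin m) F => exists_transport hF P P A
    have hTmul : ∀ A B, T (A * B) = T A * T B := fun A B => Units.ext (Matrix.toLin'.injective (by
      rw [hTL, Units.val_mul, Matrix.toLin'_mul, hTL, hTL]
      have hb : blockLin hF (A * B) = (blockLin hF A).comp (blockLin hF B) := by
        rw [blockLin, blockLin, blockLin, ← Matrix.toLin'_mul, Matrix.fromBlocks_multiply]
        congr 1
        simp only [mul_zero, zero_mul, add_zero, zero_add, _root_.mul_inv_rev, Units.val_mul, Matrix.transpose_mul,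
          map_mul]
      rw [hb]
      refine LinearMap.ext fun v => ?_
      simp))
    have hTinj : Function.Injective T := fun A B h => by
      have h1 := hTL A
      rw [h, hTL B] at h1
      have h2 : blockLin hF B = blockLin hF A := LinearMap.ext fun x => by
        simpa using P.map.injective.eq_iff.1 (show P.map (blockLin hF B x) = P.map (blockLin hF A x) by
          simpa using LinearMap.congr_fun h1 (P.map x))
      have h3 := Matrix.toLin'.injective h2
      exact Units.ext (Matrix.fromBlocks_inj.1 h3).1.symm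
    let τ : GL (Fin m) F →* H.subgroupOf G :=
      MonoidHom.mk' (fun A => ⟨⟨T A, hT A⟩, hH _ (Or.inl ⟨hTU A, hTW A⟩)⟩)
        fun A B => Subtype.ext (Subtype.ext (hTmul A B))
    have h1 : Nat.card (GL (Fin m) F) ∣ Nat.card (H.subgroupOf G) :=
      Subgroup.card_dvd_of_injective τ fun A B h =>
        hTinj (congrArg (fun t : H.subgroupOf G => ((t : G) : GL (Fin n) F)) h)
    -- pass to determinant one
    let δ : H.subgroupOf G →* Fˣ := Matrix.GeneralLinearGroup.det.comp (G.subtype.comp (H.subgroupOf G).subtype)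
    have h2 : Nat.card (H.subgroupOf G) ∣ (q + 1) * Nat.card (H.subgroupOf S) := by
      rw [← δ.ker.index_mul_card, Subgroup.index_ker]
      refine mul_dvd_mul ?_ ?_
      · have hker : Nat.card (powMonoidHom (q + 1) : Fˣ →* Fˣ).ker = q + 1 := by
          rw [IsCyclic.card_powMonoidHom_ker, card_units_eq hF]
          exact Nat.gcd_eq_right (dvd_mul_left _ _)
        refine (Subgroup.card_dvd_of_le ?_).trans (dvd_of_eq hker)
        rintro _ ⟨g, rfl⟩
        exact Units.ext (det_pow_succ_eq_one hF g.1.2)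
      · refine Subgroup.card_dvd_of_injective
          ((((G.subtype.comp (H.subgroupOf G).subtype).comp δ.ker.subtype).codRestrict S
            fun g => Subgroup.mem_inf.2 ⟨g.1.1.2, g.2⟩).codRestrict (H.subgroupOf S) fun g => g.1.2) ?_
        intro a b h
        exact Subtype.ext (Subtype.ext (Subtype.ext (congrArg (fun t : H.subgroupOf S => ((t : S) : GL (Fin n) F)) h)))
    have h3 : r * Nat.card (GL (Fin m) F) ∣ (q + 1) * Nat.card S := by
      rw [← (H.subgroupOf S).index_mul_card, mul_left_comm]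
      exact mul_dvd_mul hΩ (h1.trans h2)
    have h4 : (q + 1) * Nat.card S = Nat.card G := by
      let δ' : G →* Fˣ := Matrix.GeneralLinearGroup.det.comp G.subtype
      have hS : Nat.card δ'.ker = Nat.card S :=
        Nat.card_congr ⟨fun g => ⟨g.1.1, g.1.2, g.2⟩, fun g => ⟨⟨g.1, g.2.1⟩, g.2.2⟩, fun _ => rfl, fun _ => rfl⟩
      rw [← hS, ← δ'.ker.index_mul_card, Subgroup.index_ker]
      congr 1
      have hker : Nat.card (powMonoidHom (q + 1) : Fˣ →* Fˣ).ker = q + 1 := by
        rw [IsCyclic.card_powMonoidHom_ker, card_units_eq hF]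
        exact Nat.gcd_eq_right (dvd_mul_left _ _)
      conv_lhs => rw [← hker]
      rw [show δ'.range = (powMonoidHom (q + 1) : Fˣ →* Fˣ).ker from ?_]
      refine le_antisymm ?_ ?_
      swap
      · intro u hu
        obtain ⟨g, hg, hgd⟩ := exists_GU_det (n := n) (by omega) (show (u : F) ^ (q + 1) = 1 from congrArg Units.val hu)
        exact ⟨⟨g, hg⟩, Units.ext hgd⟩
      · rintro _ ⟨g, rfl⟩
        exact Units.ext (det_pow_succ_eq_one hF g.2)
    rw [h4, card_GU hF, Matrix.card_GL_field, hF] at h3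
    set Q := q ^ 2 with hQdef
    set o : ℕ → ℕ := fun j => if Even j then q ^ (j + 1) + 1 else 1 with ho
    set e : ℕ → ℕ := fun j => if Even j then 1 else q ^ (j + 1) - 1 with he
    have hoe : ∀ j, (if Even j then q ^ (j + 1) + 1 else q ^ (j + 1) - 1) = o j * e j := fun j => by
      simp only [ho, he]; split_ifs <;> simp
    rw [Finset.prod_congr rfl fun j _ => hoe j, Finset.prod_mul_distrib] at h3
    set A := ∏ l ∈ Finset.range m, (Q ^ (l + 1) - 1) with hA
    have hGL : A ∣ ∏ a : Fin m, (Q ^ m - Q ^ (a : ℕ)) := by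
      rw [Fin.prod_univ_eq_prod_range (fun a => Q ^ m - Q ^ a) m, hA, ← Finset.prod_range_reflect]
      refine Finset.prod_dvd_prod_of_dvd _ _ fun a ha => ?_
      rw [Finset.mem_range] at ha
      refine ⟨Q ^ a, ?_⟩
      rw [Nat.sub_mul, one_mul, ← pow_add, show m - 1 - a + 1 + a = m by omega]
    have heA : ∏ j ∈ Finset.range n, e j = A := by
      have : ∀ k, ∏ j ∈ Finset.range (2 * k), e j = ∏ l ∈ Finset.range k, (Q ^ (l + 1) - 1) := by
        intro k
        induction k with
        | zero => simp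
        | succ k ih =>
          rw [show 2 * (k + 1) = 2 * k + 1 + 1 by ring, Finset.prod_range_succ, Finset.prod_range_succ,
            Finset.prod_range_succ, ih]
          simp only [he, if_pos (even_two_mul k), mul_one, if_neg (Nat.not_even_iff_odd.2 (odd_two_mul_add_one k))]
          rw [hQdef, ← pow_mul, show 2 * k + 1 + 1 = 2 * (k + 1) by ring]
      rw [hm, this, hA]
    rw [heA] at h3
    have hA0 : 0 < A := Finset.prod_pos fun l _ => by
      have : 1 < Q ^ (l + 1) := Nat.one_lt_pow (by omega) (by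
        rw [hQdef]; exact Nat.one_lt_pow (by omega) (by omega))
      omega
    have h5 : r * A ∣ q ^ (n * (n - 1) / 2) * (∏ j ∈ Finset.range n, o j) * A := by
      rw [mul_assoc]
      exact (Nat.mul_dvd_mul_left r hGL).trans h3
    have h6 := Nat.dvd_of_mul_dvd_mul_right hA0 h5
    rcases hrp.dvd_mul.1 h6 with h | h
    · exfalso
      refine Semisimple.card_ne_zero_mod (F := F) hrF ?_
      rw [hQ, (ZMod.natCast_eq_zero_iff q r).2 (hrp.dvd_of_dvd_pow h), zero_pow two_ne_zero]
    · obtain ⟨j, hj, hj'⟩ := (Nat.Prime.prime hrp).exists_mem_finset_dvd h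
      simp only [ho] at hj'
      by_cases hev : Even j
      · rw [if_pos hev] at hj'
        exact ⟨j, Finset.mem_range.1 hj, hev, hj'⟩
      · rw [if_neg hev] at hj'
        exact absurd (Nat.dvd_one.1 hj') hrp.ne_one
  have hqj : (q : ZMod r) ^ (j + 1) = -1 :=
    eq_neg_of_add_eq_zero_left (by exact_mod_cast (ZMod.natCast_eq_zero_iff _ r).2 hj)
  have hij : i ∣ j + 1 := by
    rw [hi, orderOf_dvd_iff_pow_eq_one, hQ, ← pow_mul, mul_comm, pow_mul, hqj, neg_one_sq]
  obtain ⟨c, hc⟩ := hij
  have hoddj : Odd (i * c) := hc ▸ hje.add_one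
  obtain ⟨hiodd, hcodd⟩ := Nat.odd_mul.1 hoddj
  have hqi : (q : ZMod r) ^ i = -1 := by
    have h1 : ((q : ZMod r) ^ i) * (q : ZMod r) ^ i = 1 := by
      rw [← pow_add, ← two_mul, pow_mul, ← hQ, hi, pow_orderOf_eq_one]
    rcases mul_self_eq_one_iff.1 h1 with h | h
    · exfalso
      rw [hc, pow_mul, h, one_pow] at hqj
      exact hr2 ((Nat.prime_dvd_prime_iff_eq hrp Nat.prime_two).1 ((ZMod.natCast_eq_zero_iff 2 r).1 (by
        rw [Nat.cast_ofNat]; linear_combination hqj)))
    · exact h
  have hi0 : 0 < i := hiodd.pos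
  have hile : i ≤ j + 1 := Nat.le_of_dvd (by omega) ⟨c, hc⟩
  refine ⟨by omega, ?_, fun h1 => absurd ?_ hrq⟩
  · rw [card_GU hF]
    refine dvd_mul_of_dvd_right (dvd_trans ?_ (Finset.dvd_prod_of_mem _ (Finset.mem_range.2 (show i - 1 < i by omega)))) _
    obtain ⟨t, ht⟩ := hiodd
    rw [if_pos ⟨t, by omega⟩, Nat.sub_add_cancel hi0, ← ZMod.natCast_eq_zero_iff, Nat.cast_add, Nat.cast_pow, hqi,
      Nat.cast_one, neg_add_cancel]
  · rw [← ZMod.natCast_eq_zero_iff, Nat.cast_add, Nat.cast_one]
    rw [h1, pow_one] at hqi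
    rw [hqi, neg_add_cancel]

section two

variable {p : ℕ}

/-- The reflection-like involution preserves no pair. -/
theorem exists_derangement_two (hF : Fintype.card F = q ^ 2) (h2 : (2 : F) ≠ 0) (hn : 4 ≤ n)
    (hval : padicValNat 2 n < padicValNat 2 (q + 1)) :
    ∃ x ∈ GU n F q ⊓ Geo.specialLinear (Fin n) F, (∃ z : F, ((x ^ 2 : GL (Fin n) F) : Matrix (Fin n) (Fin n) F) = z • 1) ∧
      (∀ z : F, (x : Matrix (Fin n) (Fin n) F) ≠ z • 1) ∧
      ∀ U W : Submodule F V, Polar q U W → ¬ Preserves x U W := by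
  classical
  haveI : Fact (Nat.Prime 2) := ⟨Nat.prime_two⟩
  set b := padicValNat 2 n
  obtain ⟨n', hn'⟩ : 2 ^ b ∣ n := pow_padicValNat_dvd
  have hn'odd : Odd n' := by
    rw [← Nat.not_even_iff_odd, even_iff_two_dvd]
    rintro ⟨t, rfl⟩
    exact pow_succ_padicValNat_not_dvd (p := 2) (n := n) (by omega) ⟨t, by rw [pow_succ]; linarith [hn']⟩
  have hdq : 2 ^ (b + 1) ∣ q + 1 := (pow_dvd_pow 2 hval).trans pow_padicValNat_dvd
  obtain ⟨lu, hl⟩ := IsCyclic.exists_ofOrder_eq_natCard (α := Fˣ)
  have hdc : 2 ^ (b + 1) ∣ Nat.card Fˣ := by rw [card_units_eq hF]; exact hdq.mul_left _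
  obtain ⟨lam, hlam⟩ : ∃ lam : Fˣ, orderOf lam = 2 ^ (b + 1) := by
    refine ⟨lu ^ (Nat.card Fˣ / 2 ^ (b + 1)), ?_⟩
    rw [orderOf_pow, hl, Nat.gcd_eq_right (Nat.div_dvd_of_dvd hdc), Nat.div_div_self hdc Nat.card_pos.ne']
  have hlq : (lam : F) ^ (q + 1) = 1 := by
    rw [← Units.val_pow_eq_pow_val, orderOf_dvd_iff_pow_eq_one.1 (hlam ▸ hdq), Units.val_one]
  have hln : (lam : F) ^ n = -1 := by
    have h1 : ((lam : F) ^ 2 ^ b) * (lam : F) ^ 2 ^ b = 1 := by
      rw [← pow_add, ← two_mul, ← pow_succ', ← Units.val_pow_eq_pow_val, ← hlam, pow_orderOf_eq_one, Units.val_one]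
    have h2' : (lam : F) ^ 2 ^ b = -1 := by
      rcases mul_self_eq_one_iff.1 h1 with h | h
      · exfalso
        have h3 : orderOf lam ∣ 2 ^ b := orderOf_dvd_of_pow_eq_one (Units.ext (by simpa using h))
        rw [hlam] at h3
        exact absurd (Nat.le_of_dvd (by positivity) h3) (not_le.2 (Nat.pow_lt_pow_succ one_lt_two))
      · exact h
    rw [hn', pow_mul, h2', hn'odd.neg_one_pow]
  set a : Fin n := ⟨0, by omega⟩
  set w : Fin n → F := Function.update (fun _ => (lam : F)) a (-(lam : F)) with hw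
  have hqodd : Even (q + 1) := by
    rw [even_iff_two_dvd]; exact (dvd_pow_self 2 (by omega)).trans hdq
  have hwn : ∀ k, w k ^ (q + 1) = 1 := fun k => by
    by_cases h : k = a
    · rw [h, hw, Function.update_self, hqodd.neg_pow, hlq]
    · rw [hw, Function.update_of_ne h, hlq]
  set x : GL (Fin n) F := (diagGU w hwn).1 with hx
  have hxv : (x : Matrix (Fin n) (Fin n) F) = Matrix.diagonal w := diagGU_val w hwn
  let M : Submodule F V := F ∙ Pi.single a 1
  have hrange : ∀ v, (x : Matrix (Fin n) (Fin n) F) *ᵥ v - (lam : F) • v ∈ M := fun v => by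
    refine Submodule.mem_span_singleton.2 ⟨-2 * (lam : F) * v a, funext fun k => ?_⟩
    by_cases h : k = a
    · subst h; simp [hxv, Matrix.mulVec_diagonal, hw]; ring
    · simp [hxv, Matrix.mulVec_diagonal, hw, h]
  have hns : ∀ z : F, (x : Matrix (Fin n) (Fin n) F) ≠ z • 1 := fun z h => by
    have ha := congrFun (congrFun h a) a
    have hb := congrFun (congrFun h (⟨1, by omega⟩ : Fin n)) ⟨1, by omega⟩
    simp [hxv, hw, a, Fin.ext_iff] at ha hb
    rw [← hb] at ha
    exact lam.ne_zero ((mul_eq_zero.1 (show (2 : F) * lam = 0 by linear_combination -ha)).resolve_left h2)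
  refine ⟨x, ⟨(diagGU w hwn).2, Units.ext ?_⟩, ⟨(lam : F) * lam, ?_⟩, hns, fun U W hp => ?_⟩
  · show (x : Matrix (Fin n) (Fin n) F).det = 1
    rw [hxv, Matrix.det_diagonal, hw, Finset.prod_update_of_mem (Finset.mem_univ _), Finset.prod_const,
      Finset.card_sdiff, Finset.card_univ, Fintype.card_fin]
    simp only [Finset.inter_univ, Finset.card_singleton]
    rw [show (-(lam : F)) * (lam : F) ^ (n - 1) = -((lam : F) ^ n) by
      conv_rhs => rw [show n = n - 1 + 1 by omega, pow_succ]
      ring, hln, neg_neg]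
  · rw [pow_two, Units.val_mul, hxv, Matrix.diagonal_mul_diagonal, Matrix.smul_one_eq_diagonal]
    congr 1
    funext k
    by_cases h : k = a <;> simp [hw, h]
  · refine not_preserves (c := (lam : F)) hrange (fun S hSM hSx hS0 => ?_) (fun v hv => ?_) (hns _) hp ?_
    · obtain ⟨v, hv, hv0⟩ := Submodule.exists_mem_ne_zero_of_ne_bot hS0
      obtain ⟨c, rfl⟩ := Submodule.mem_span_singleton.1 (hSM hv)
      refine ⟨_, hv, ?_⟩
      rw [herm_self_smul, herm_single_single hF, if_pos rfl, mul_one]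
      exact pow_ne_zero _ fun h => hv0 (by rw [h, zero_smul])
    · have := M.add_mem (hrange v) (M.smul_mem (lam : F) hv)
      rwa [sub_add_cancel] at this
    · refine not_swap_of_rank hrange hp ?_
      rw [finrank_span_singleton (by simp [Ne, Pi.single_eq_zero_iff])]
      have := (finrank_polar hF hp).2
      omega

theorem polar_of_span (hF : Fintype.card F = q ^ 2) (hm : n = 2 * m) {α : Type*} [Fintype α]
    (hα : Fintype.card α = m) (u w : α → V) (huu : ∀ a b, hermForm n F q (u a) (u b) = 0)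
    (hww : ∀ a b, hermForm n F q (w a) (w b) = 0)
    (htop : Submodule.span F (Set.range u) ⊔ Submodule.span F (Set.range w) = ⊤) :
    Polar q (Submodule.span F (Set.range u)) (Submodule.span F (Set.range w)) := by
  have hts : ∀ u : α → V, (∀ a b, hermForm n F q (u a) (u b) = 0) →
      ∀ x ∈ Submodule.span F (Set.range u), ∀ y ∈ Submodule.span F (Set.range u), hermForm n F q x y = 0 := by
    intro u h x hx y hy
    obtain ⟨c, rfl⟩ := (Submodule.mem_span_range_iff_exists_fun F).1 hx
    obtain ⟨d, rfl⟩ := (Submodule.mem_span_range_iff_exists_fun F).1 hy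
    simp [herm_sum_left, herm_sum_right hF, herm_smul_left, herm_smul_right, h]
  refine ⟨⟨?_, codisjoint_iff.2 htop⟩, hts u huu, hts w hww⟩
  have h1 := Submodule.finrank_sup_add_finrank_inf_eq (Submodule.span F (Set.range u)) (Submodule.span F (Set.range w))
  rw [htop, finrank_top, Module.finrank_fin_fun] at h1
  have h2 := finrank_range_le_card (R := F) (b := u)
  have h3 := finrank_range_le_card (R := F) (b := w)
  simp only [Set.finrank] at h2 h3
  rw [hα] at h2 h3
  rw [disjoint_iff, ← Submodule.finrank_eq_zero]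
  omega

/-- Every element of order two preserves some pair. -/
theorem exists_preserved (hF : Fintype.card F = q ^ 2) (hodd : Odd q) (h2 : (2 : F) ≠ 0) (hm : n = 2 * m)
    (hn : 0 < n) (hval : padicValNat 2 (q + 1) ≤ padicValNat 2 n) {x : GL (Fin n) F}
    (hx : x ∈ GU n F q ⊓ Geo.specialLinear (Fin n) F) {z : F}
    (hz : ((x ^ 2 : GL (Fin n) F) : Matrix (Fin n) (Fin n) F) = z • 1) :
    ∃ U W : Submodule F V, Polar q U W ∧ Preserves x U W := by
  classical
  have hq := two_le_q hF
  have hpres := mem_GU.1 hx.1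
  have hxx : ∀ v, (x : Matrix (Fin n) (Fin n) F) *ᵥ ((x : Matrix (Fin n) (Fin n) F) *ᵥ v) = z • v := fun v => by
    rw [Matrix.mulVec_mulVec, ← Units.val_mul, ← pow_two, hz, Matrix.smul_mulVec, Matrix.one_mulVec]
  set e : V := Pi.single ⟨0, hn⟩ 1 with he
  have hzn : z ^ (q + 1) = 1 := by
    have h := hpres ((x : Matrix (Fin n) (Fin n) F) *ᵥ e) ((x : Matrix (Fin n) (Fin n) F) *ᵥ e)
    rw [hxx, hpres, herm_self_smul, he, herm_single_single hF, if_pos rfl, mul_one] at h
    exact h
  have hF2 : ringChar F ≠ 2 := fun h => h2 (by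
    haveI := ringChar.charP F
    exact_mod_cast (CharP.cast_eq_zero_iff F (ringChar F) 2).2 (h ▸ dvd_rfl))
  have hz0 : z ≠ 0 := fun h => by simp [h] at hzn
  obtain ⟨lam, hlam⟩ : IsSquare z := by
    obtain ⟨k, hk⟩ := hodd
    rw [FiniteField.isSquare_iff hF2 hz0,
      show Fintype.card F / 2 = (q + 1) * k by
        rw [hF, hk, show (2 * k + 1) ^ 2 = 2 * ((2 * k + 1 + 1) * k) + 1 by ring]
        omega, pow_mul, hzn, one_pow]
  have hl0 : lam ≠ 0 := fun h => hz0 (by rw [hlam, h, mul_zero])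
  have hl2 : lam ^ (q + 1) * lam ^ (q + 1) = 1 := by rw [← mul_pow, ← hlam, hzn]
  let E : F → Submodule F V := fun s =>
    LinearMap.ker (Matrix.toLin' (x : Matrix (Fin n) (Fin n) F) - s • LinearMap.id)
  have hmemE : ∀ s v, v ∈ E s ↔ (x : Matrix (Fin n) (Fin n) F) *ᵥ v = s • v := fun s v => by
    simp [E, sub_eq_zero]
  have hsum : E lam ⊔ E (-lam) = ⊤ := by
    rw [eq_top_iff]
    intro v _
    refine Submodule.mem_sup.2 ⟨(2⁻¹ : F) • (v + lam⁻¹ • (x : Matrix (Fin n) (Fin n) F) *ᵥ v), (hmemE _ _).2 ?_,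
      (2⁻¹ : F) • (v - lam⁻¹ • (x : Matrix (Fin n) (Fin n) F) *ᵥ v), (hmemE _ _).2 ?_, ?_⟩
    · rw [Matrix.mulVec_smul, Matrix.mulVec_add, Matrix.mulVec_smul, hxx, hlam, smul_smul lam⁻¹,
        ← mul_assoc lam⁻¹, inv_mul_cancel₀ hl0, one_mul, smul_comm lam (2⁻¹ : F), smul_add lam, smul_smul lam lam⁻¹,
        mul_inv_cancel₀ hl0, one_smul, add_comm]
    · rw [Matrix.mulVec_smul, Matrix.mulVec_sub, Matrix.mulVec_smul, hxx, hlam, smul_smul lam⁻¹,
        ← mul_assoc lam⁻¹, inv_mul_cancel₀ hl0, one_mul, smul_comm (-lam) (2⁻¹ : F), smul_sub (-lam),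
        smul_smul (-lam) lam⁻¹, neg_mul, mul_inv_cancel₀ hl0, neg_smul, neg_smul, one_smul, sub_neg_eq_add,
        neg_add_eq_sub]
    · rw [← smul_add, show v + lam⁻¹ • (x : Matrix (Fin n) (Fin n) F) *ᵥ v +
        (v - lam⁻¹ • (x : Matrix (Fin n) (Fin n) F) *ᵥ v) = (2 : F) • v by rw [two_smul]; abel,
        inv_smul_smul₀ h2]
  have fixes : ∀ U : Submodule F V, (∀ v ∈ U, ∃ s : F, (x : Matrix (Fin n) (Fin n) F) *ᵥ v = s • v) →
      U.map (Matrix.toLin' (x : Matrix (Fin n) (Fin n) F)) = U := fun U hU => by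
    refine Submodule.eq_of_le_of_finrank_eq ?_ (Submodule.equivMapOfInjective _
      (fun u v h => Matrix.mulVec_injective_iff_isUnit.2 x.isUnit (by simpa using h)) U).finrank_eq.symm
    rintro _ ⟨v, hv, rfl⟩
    obtain ⟨s, hs⟩ := hU v hv
    rw [Matrix.toLin'_apply, hs]
    exact U.smul_mem s hv
  have hne : lam ≠ -lam := fun h =>
    hl0 ((mul_eq_zero.1 (show (2 : F) * lam = 0 by linear_combination h)).resolve_left h2)
  have hdisj : Disjoint (E lam) (E (-lam)) := Submodule.disjoint_def.2 fun v h1 h2' => by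
    have h3 : (lam - -lam) • v = 0 := by rw [sub_smul, ← (hmemE _ _).1 h1, ← (hmemE _ _).1 h2', sub_self]
    exact (smul_eq_zero.1 h3).resolve_left (sub_ne_zero.2 hne)
  rcases mul_self_eq_one_iff.1 hl2 with hl | hl
  swap
  · refine ⟨E lam, E (-lam), ⟨⟨hdisj, codisjoint_iff.2 hsum⟩, ?_, ?_⟩,
      Or.inl ⟨fixes _ fun v hv => ⟨_, (hmemE _ _).1 hv⟩, fixes _ fun v hv => ⟨_, (hmemE _ _).1 hv⟩⟩⟩
    all_goals
      intro u hu v hv
      have h := hpres u v
      rw [(hmemE _ _).1 hu, (hmemE _ _).1 hv, herm_smul_left, herm_smul_right, ← mul_assoc, ← pow_succ'] at h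
      first
        | rw [hl] at h
        | rw [(hodd.add_one).neg_pow, hl] at h
      exact (mul_eq_zero.1 (show (2 : F) * hermForm n F q u v = 0 by linear_combination -h)).resolve_left h2
  have horth : ∀ u ∈ E lam, ∀ v ∈ E (-lam), hermForm n F q u v = 0 := by
    intro u hu v hv
    have h := hpres u v
    rw [(hmemE _ _).1 hu, (hmemE _ _).1 hv, herm_smul_left, herm_smul_right, ← mul_assoc,
      hodd.neg_pow, mul_neg, ← pow_succ', hl] at h
    exact (mul_eq_zero.1 (show (2 : F) * hermForm n F q u v = 0 by linear_combination -h)).resolve_left h2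
  have hnd : ∀ s t : F, E s ⊔ E t = ⊤ → (∀ u ∈ E s, ∀ v ∈ E t, hermForm n F q u v = 0) → IsNondeg q (E s) := by
    intro s t hst ho u hu h
    refine herm_nondeg hF u fun v => ?_
    obtain ⟨a, ha, b, hb, rfl⟩ := Submodule.mem_sup.1 (hst ▸ Submodule.mem_top : v ∈ E s ⊔ E t)
    rw [herm_add_right hF, h a ha, ho u hu b hb, add_zero]
  obtain ⟨g, hg, hgE, hgs⟩ := exists_orthonorm_basis hF (hnd _ _ hsum horth) (d := finrank F (E lam)) rfl
  obtain ⟨g', hg', hgE', hgs'⟩ := exists_orthonorm_basis hF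
    (hnd _ _ (sup_comm (E lam) _ ▸ hsum) fun u hu v hv => herm_eq_zero_comm hF (horth v hv u hu))
    (d := finrank F (E (-lam))) rfl
  have hk : finrank F (E lam) + finrank F (E (-lam)) = n := by
    rw [Submodule.finrank_add_eq_of_isCompl ⟨hdisj, codisjoint_iff.2 hsum⟩, Module.finrank_fin_fun]
  -- the determinant
  have hEeven : Even (finrank F (E (-lam))) := by
    let B : Basis (Fin (finrank F (E lam)) ⊕ Fin (finrank F (E (-lam)))) F V :=
      Basis.mk (v := Sum.elim g g') (by
        refine LinearIndependent.sum_type (hg.linearIndependent hF) (hg'.linearIndependent hF) ?_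
        rw [hgs, hgs']; exact hdisj) (by
        rw [Set.Sum.elim_range, Submodule.span_union, hgs, hgs', hsum])
    have hM : LinearMap.toMatrix B B (Matrix.toLin' (x : Matrix (Fin n) (Fin n) F)) =
        Matrix.diagonal (Sum.elim (fun _ => lam) (fun _ => -lam)) := by
      ext a b
      rw [LinearMap.toMatrix_apply, Matrix.toLin'_apply]
      have hb : (x : Matrix (Fin n) (Fin n) F) *ᵥ B b = (Sum.elim (fun _ => lam) (fun _ => -lam) b) • B b := by
        rcases b with b | b
        · simp [B, (hmemE _ _).1 (hgE b)]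
        · simp [B, (hmemE _ _).1 (hgE' b)]
      rw [hb, map_smul, Finsupp.smul_apply, B.repr_self, Finsupp.single_apply, Matrix.diagonal_apply]
      by_cases hab : a = b
      · subst hab; simp
      · simp [hab, Ne.symm hab]
    have hdet : (x : Matrix (Fin n) (Fin n) F).det = 1 := congrArg Units.val hx.2
    rw [← LinearMap.det_toLin', ← LinearMap.det_toMatrix B, hM, Matrix.det_diagonal, Fintype.prod_sum_type] at hdet
    simp only [Sum.elim_inl, Sum.elim_inr, Finset.prod_const, Finset.card_univ, Fintype.card_fin] at hdet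
    rw [neg_pow, mul_left_comm, ← pow_add, hk] at hdet
    haveI : Fact (Nat.Prime 2) := ⟨Nat.prime_two⟩
    obtain ⟨o, ho⟩ : 2 ^ padicValNat 2 (q + 1) ∣ q + 1 := pow_padicValNat_dvd
    obtain ⟨n', hn'⟩ : 2 ^ padicValNat 2 (q + 1) ∣ n := (pow_dvd_pow 2 hval).trans pow_padicValNat_dvd
    have hoodd : Odd o := by
      rw [← Nat.not_even_iff_odd, even_iff_two_dvd]
      rintro ⟨t, rfl⟩
      exact pow_succ_padicValNat_not_dvd (p := 2) (n := q + 1) (by omega) ⟨t, by rw [pow_succ]; linarith [ho]⟩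
    have h1 := congrArg (· ^ o) hdet
    simp only [one_pow, mul_pow, ← pow_mul] at h1
    rw [show n * o = (q + 1) * n' by rw [ho, hn']; ring, pow_mul lam, hl, one_pow, mul_one] at h1
    have h3 : Even (finrank F (E (-lam)) * o) := by
      by_contra hne'
      rw [(Nat.not_even_iff_odd.1 hne').neg_one_pow] at h1
      exact h2 (by linear_combination -h1)
    exact (Nat.even_mul.1 h3).resolve_right (Nat.not_even_iff_odd.2 hoodd)
  obtain ⟨s', hs'⟩ := hEeven
  obtain ⟨s, hs⟩ : Even (finrank F (E lam)) := ⟨m - s', by omega⟩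
  obtain ⟨c, hc⟩ := exists_norm_eq hF (a := (-1 : F)) (by rw [neg_pow_q hF, one_pow])
  obtain ⟨t, ht, ht2⟩ := exists_norm_one_ne_inv hF
  have ht1 : t ≠ 1 := fun h => ht2 (by simp [h])
  have hc0 : c ≠ 0 := fun h => by simp [h] at hc
  set c' := c * t with hc'
  have hc'n : c' ^ (q + 1) = -1 := by rw [hc', mul_pow, hc, ht, mul_one]
  have hcc : c' - c ≠ 0 := sub_ne_zero.2 fun h => ht1 (mul_left_cancel₀ hc0 (h.trans (mul_one c).symm))
  let fst : Fin s ⊕ Fin s' → V := Sum.elim (fun a => g ⟨2 * a, by omega⟩) fun a => g' ⟨2 * a, by omega⟩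
  let snd : Fin s ⊕ Fin s' → V := Sum.elim (fun a => g ⟨2 * a + 1, by omega⟩) fun a => g' ⟨2 * a + 1, by omega⟩
  have hfs : ∀ a b, hermForm n F q (fst a) (fst b) = (if a = b then 1 else 0) ∧
      hermForm n F q (snd a) (snd b) = (if a = b then 1 else 0) ∧ hermForm n F q (fst a) (snd b) = 0 ∧
      hermForm n F q (snd a) (fst b) = 0 := by
    have ho' : ∀ (a : Fin (finrank F (E lam))) b, hermForm n F q (g a) (g' b) = 0 ∧ hermForm n F q (g' b) (g a) = 0 :=
      fun a b => ⟨horth _ (hgE a) _ (hgE' b), herm_eq_zero_comm hF (horth _ (hgE a) _ (hgE' b))⟩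
    rintro (a | a) (b | b) <;> simp [fst, snd, hg _ _, hg' _ _, (ho' _ _).1, (ho' _ _).2, Fin.ext_iff] <;> omega
  have hev : ∀ a, ∃ σ : F, (x : Matrix (Fin n) (Fin n) F) *ᵥ fst a = σ • fst a ∧
      (x : Matrix (Fin n) (Fin n) F) *ᵥ snd a = σ • snd a := by
    rintro (a | a)
    · exact ⟨lam, (hmemE _ _).1 (hgE _), (hmemE _ _).1 (hgE _)⟩
    · exact ⟨-lam, (hmemE _ _).1 (hgE' _), (hmemE _ _).1 (hgE' _)⟩
  have hiso : ∀ d : F, d ^ (q + 1) = -1 → ∀ a b,
      hermForm n F q (fst a + d • snd a) (fst b + d • snd b) = 0 := by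
    intro d hd a b
    obtain ⟨h11, h22, h12, h21⟩ := hfs a b
    simp only [herm_add_left, herm_add_right hF, herm_smul_left, herm_smul_right, h11, h22, h12, h21]
    split_ifs
    · linear_combination hd
    · ring
  set u : Fin s ⊕ Fin s' → V := fun a => fst a + c • snd a with hu
  set w : Fin s ⊕ Fin s' → V := fun a => fst a + c' • snd a with hw
  have htop : Submodule.span F (Set.range u) ⊔ Submodule.span F (Set.range w) = ⊤ := by
    have hsnd : ∀ a, snd a ∈ Submodule.span F (Set.range u) ⊔ Submodule.span F (Set.range w) := fun a => by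
      have h : w a - u a ∈ Submodule.span F (Set.range u) ⊔ Submodule.span F (Set.range w) :=
        Submodule.sub_mem _ (Submodule.mem_sup_right (Submodule.subset_span ⟨a, rfl⟩))
          (Submodule.mem_sup_left (Submodule.subset_span ⟨a, rfl⟩))
      rw [hw, hu] at h
      simp only [add_sub_add_left_eq_sub, ← sub_smul] at h
      exact (Submodule.smul_mem_iff _ hcc).1 h
    have hfst : ∀ a, fst a ∈ Submodule.span F (Set.range u) ⊔ Submodule.span F (Set.range w) := fun a => by
      have := Submodule.sub_mem _ (show u a ∈ Submodule.span F (Set.range u) ⊔ Submodule.span F (Set.range w) from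
        Submodule.mem_sup_left (Submodule.subset_span ⟨a, rfl⟩)) (Submodule.smul_mem _ c (hsnd a))
      simpa [hu] using this
    rw [eq_top_iff, ← hsum, sup_le_iff, ← hgs, ← hgs', Submodule.span_le, Submodule.span_le]
    constructor
    · rintro _ ⟨l, rfl⟩
      rcases Nat.even_or_odd' (l : ℕ) with ⟨a, ha | ha⟩
      · exact (show g l = fst (Sum.inl ⟨a, by omega⟩) from congrArg g (Fin.ext ha)) ▸ hfst _
      · exact (show g l = snd (Sum.inl ⟨a, by omega⟩) from congrArg g (Fin.ext ha)) ▸ hsnd _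
    · rintro _ ⟨l, rfl⟩
      rcases Nat.even_or_odd' (l : ℕ) with ⟨a, ha | ha⟩
      · exact (show g' l = fst (Sum.inr ⟨a, by omega⟩) from congrArg g' (Fin.ext ha)) ▸ hfst _
      · exact (show g' l = snd (Sum.inr ⟨a, by omega⟩) from congrArg g' (Fin.ext ha)) ▸ hsnd _
  refine ⟨_, _, polar_of_span hF hm (by simp; omega) u w (hiso c hc) (hiso c' hc'n) htop, Or.inl ⟨?_, ?_⟩⟩
  all_goals
    refine Submodule.eq_of_le_of_finrank_eq ?_ (Submodule.equivMapOfInjective _
      (fun u v h => Matrix.mulVec_injective_iff_isUnit.2 x.isUnit (by simpa using h)) _).finrank_eq.symm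
    rw [Submodule.map_span, Submodule.span_le]
    rintro _ ⟨_, ⟨a, rfl⟩, rfl⟩
    obtain ⟨σ, h1, h2⟩ := hev a
    rw [Matrix.toLin'_apply]
    first
      | (rw [hu]; simp only [Matrix.mulVec_add, Matrix.mulVec_smul, h1, h2, smul_comm _ σ, ← smul_add]
         exact Submodule.smul_mem _ σ (Submodule.subset_span ⟨a, rfl⟩))
      | (rw [hw]; simp only [Matrix.mulVec_add, Matrix.mulVec_smul, h1, h2, smul_comm _ σ, ← smul_add]
         exact Submodule.smul_mem _ σ (Submodule.subset_span ⟨a, rfl⟩))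

end two

/-- The criterion. -/
theorem criterion (hF : Fintype.card F = q ^ 2) {p : ℕ} [Fact p.Prime] [CharP F p] (hn : 4 ≤ n) (he : Even n)
    {D : Fin 2 → Submodule F V} (hD : Geo.IsMDecomposition (n / 2) D)
    (hDs : ∀ i, Geo.IsTotallySingularFor (hermForm n F q) (D i))
    (hΩ : r ∣ (Geo.decompositionStabilizer D).relIndex (GU n F q ⊓ Geo.specialLinear (Fin n) F)) :
    (∀ x ∈ GU n F q ⊓ Geo.specialLinear (Fin n) F, (∃ z : F, ((x ^ r : GL (Fin n) F) : Matrix (Fin n) (Fin n) F) = z • 1) →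
      (∀ z : F, (x : Matrix (Fin n) (Fin n) F) ≠ z • 1) →
      ∃ g ∈ GU n F q ⊓ Geo.specialLinear (Fin n) F, g⁻¹ * x * g ∈ Geo.decompositionStabilizer D) ↔
    (r = 2 ∧ Odd q ∧ padicValNat 2 (q + 1) ≤ padicValNat 2 n) := by
  classical
  obtain ⟨m, hm⟩ : ∃ m, n = 2 * m := he.two_dvd
  have hp0 := polar_of_decomp hD hDs
  have key : ∀ x : GL (Fin n) F, (∃ g ∈ GU n F q ⊓ Geo.specialLinear (Fin n) F,
      g⁻¹ * x * g ∈ Geo.decompositionStabilizer D) ↔ ∃ U W, Polar q U W ∧ Preserves x U W := by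
    intro x
    constructor
    · rintro ⟨g, hg, hgx⟩
      have hpres := mem_GU.1 hg.1
      have hinj : Function.Injective (Matrix.toLin' (g : Matrix (Fin n) (Fin n) F)) := fun u v h =>
        Matrix.mulVec_injective_iff_isUnit.2 g.isUnit (by simpa using h)
      have hts : ∀ S : Submodule F V, (∀ u ∈ S, ∀ v ∈ S, hermForm n F q u v = 0) →
          ∀ u ∈ S.map (Matrix.toLin' (g : Matrix (Fin n) (Fin n) F)),
          ∀ v ∈ S.map (Matrix.toLin' (g : Matrix (Fin n) (Fin n) F)), hermForm n F q u v = 0 := by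
        rintro S hS _ ⟨u, hu, rfl⟩ _ ⟨v, hv, rfl⟩
        rw [Matrix.toLin'_apply, Matrix.toLin'_apply, hpres]
        exact hS u hu v hv
      refine ⟨_, _, ⟨⟨?_, ?_⟩, hts _ hp0.left, hts _ hp0.right⟩,
        (preserves_conj_iff rfl rfl).1 (mem_stabilizer_iff.1 hgx)⟩
      · rw [disjoint_iff, ← Submodule.map_inf _ hinj, hp0.compl.inf_eq_bot, Submodule.map_bot]
      · rw [codisjoint_iff, ← Submodule.map_sup, hp0.compl.sup_eq_top, Submodule.map_top, LinearMap.range_eq_top]
        exact LinearMap.injective_iff_surjective.1 hinj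
    · rintro ⟨U, W, hp, hpres⟩
      obtain ⟨g, hg, hU, hW⟩ := exists_SU_transport hF hm (by omega) hp0 hp
      exact ⟨g, hg, mem_stabilizer_iff.2 ((preserves_conj_iff hU hW).2 hpres)⟩
  constructor
  · intro hall
    have fail : ∀ x ∈ GU n F q ⊓ Geo.specialLinear (Fin n) F,
        (∃ z : F, ((x ^ r : GL (Fin n) F) : Matrix (Fin n) (Fin n) F) = z • 1) →
        (∀ z : F, (x : Matrix (Fin n) (Fin n) F) ≠ z • 1) →
        (∀ U W : Submodule F V, Polar q U W → ¬ Preserves x U W) → False := fun x h1 h2 h3 h4 => by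
      obtain ⟨U, W, hp, hpres⟩ := (key x).1 (hall x h1 h2 h3)
      exact h4 U W hp hpres
    have fail1 : ∀ x ∈ GU n F q ⊓ Geo.specialLinear (Fin n) F, x ^ r = 1 → x ≠ 1 →
        (∀ U W : Submodule F V, Polar q U W → ¬ Preserves x U W) → False := by
      intro x hx hxr hx1 hno
      refine fail x hx ⟨1, by rw [hxr, Units.val_one, one_smul]⟩ (fun z hz => ?_) hno
      refine hno (D 0) (D 1) hp0 (Or.inl ⟨?_, ?_⟩) <;>
        rw [hz, map_smul, Matrix.toLin'_one, Submodule.map_smul _ _ _ (fun h0 => by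
          haveI : Nonempty (Fin n) := ⟨⟨0, by omega⟩⟩
          exact x.ne_zero (by rw [hz, h0, zero_smul])), Submodule.map_id]
    by_cases hrF : (r : F) = 0
    · have hrp : p = r :=
        (Nat.prime_dvd_prime_iff_eq (Fact.out : p.Prime) (Fact.out : r.Prime)).1 ((CharP.cast_eq_zero_iff F p r).1 hrF)
      subst hrp
      obtain ⟨x, hx, hxr, hx1, hno⟩ := exists_derangement_p (p := p) hF hn hm
      exact (fail1 x hx hxr hx1 hno).elim
    by_cases hr2 : r = 2
    · subst hr2
      have h2 : (2 : F) ≠ 0 := by exact_mod_cast hrF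
      have hodd : Odd q := by
        rcases Nat.even_or_odd q with h | h
        · exfalso
          have h' := FiniteField.odd_card_of_char_ne_two (F := F) fun h' => h2 (by
            haveI := ringChar.charP F
            exact_mod_cast (CharP.cast_eq_zero_iff F (ringChar F) 2).2 (h' ▸ dvd_rfl))
          rw [hF] at h'
          exact Nat.not_odd_iff_even.2 (h.pow_of_ne_zero two_ne_zero) (Nat.odd_iff.2 h')
        · exact h
      refine ⟨rfl, hodd, ?_⟩
      by_contra hlt
      obtain ⟨x, hx, hz, hns, hno⟩ := exists_derangement_two hF h2 hn (by omega)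
      exact fail x hx hz hns hno
    · obtain ⟨hin, hdvd, hi1⟩ := block_of_dvd_relIndex hF hr2 hrF hm (by omega) hp0
        (fun x hx => mem_stabilizer_iff.2 hx) hΩ
      obtain ⟨x, hx, hxr, hx1, hno⟩ := exists_derangement_odd hF hr2 hrF hn rfl hin hdvd hi1
      exact (fail1 x hx hxr hx1 hno).elim
  · rintro ⟨rfl, hodd, hval⟩ x hx ⟨z, hz⟩ -
    have h2 : (2 : F) ≠ 0 := fun h => by
      haveI := ringChar.charP F
      have hc : ringChar F = 2 := (Nat.prime_dvd_prime_iff_eq (CharP.char_is_prime F (ringChar F)) Nat.prime_two).1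
        ((CharP.cast_eq_zero_iff F (ringChar F) 2).1 (by exact_mod_cast h))
      have h' := FiniteField.even_card_of_char_two hc
      rw [hF] at h'
      exact Nat.not_even_iff_odd.2 (hodd.pow (n := 2)) (Nat.even_iff.2 h')
    obtain ⟨U, W, hp, hpres⟩ := exists_preserved hF hodd h2 hm (by omega) hval hx hz
    exact (key x).2 ⟨U, W, hp, hpres⟩

end CfsgLib.Classical.PrimeDerangement.PolarPairGU
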