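import Cfsg.Agent.Classical.Unitary.Group
import Cfsg.Agent.Eq.Def_GeometricClasses

/-!
Complementary totally singular pairs of a hermitian space: frames, transitivity of the special unitary group,
and the general linear group inside the stabiliser.
-/

set_option autoImplicit false

namespace CfsgLib.Classical.PrimeDerangement.PolarPairGU

open Cfsg Matrix Module CfsgLib.Unitary

variable {F : Type*} [Field F] {n m q : ℕ}

local notation "V" => (Fin n → F)

/-- Complementary totally singular subspaces. -/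
structure Polar (q : ℕ) (U W : Submodule F (Fin n → F)) : Prop where
  compl : IsCompl U W
  left : ∀ u ∈ U, ∀ v ∈ U, hermForm n F q u v = 0
  right : ∀ u ∈ W, ∀ v ∈ W, hermForm n F q u v = 0

theorem Polar.symm {U W : Submodule F V} (h : Polar q U W) : Polar q W U := ⟨h.compl.symm, h.right, h.left⟩

/-- `x` preserves the unordered pair. -/
def Preserves (x : GL (Fin n) F) (U W : Submodule F (Fin n → F)) : Prop :=
  (U.map (Matrix.toLin' (x : Matrix (Fin n) (Fin n) F)) = U ∧ W.map (Matrix.toLin' (x : Matrix (Fin n) (Fin n) F)) = W) ∨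
    (U.map (Matrix.toLin' (x : Matrix (Fin n) (Fin n) F)) = W ∧ W.map (Matrix.toLin' (x : Matrix (Fin n) (Fin n) F)) = U)

theorem map_toLin_mul (a b : GL (Fin n) F) (U : Submodule F V) :
    U.map (Matrix.toLin' ((a * b : GL (Fin n) F) : Matrix (Fin n) (Fin n) F)) =
      (U.map (Matrix.toLin' (b : Matrix (Fin n) (Fin n) F))).map (Matrix.toLin' (a : Matrix (Fin n) (Fin n) F)) := by
  rw [Units.val_mul, Matrix.toLin'_mul, Submodule.map_comp]

theorem map_toLin_one (U : Submodule F V) :
    U.map (Matrix.toLin' ((1 : GL (Fin n) F) : Matrix (Fin n) (Fin n) F)) = U := by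
  rw [Units.val_one, Matrix.toLin'_one, Submodule.map_id]

/-- Preserving a pair, read after moving the pair. -/
theorem preserves_conj_iff {g x : GL (Fin n) F} {U W U' W' : Submodule F V}
    (hU : U.map (Matrix.toLin' (g : Matrix (Fin n) (Fin n) F)) = U')
    (hW : W.map (Matrix.toLin' (g : Matrix (Fin n) (Fin n) F)) = W') :
    Preserves (g⁻¹ * x * g) U W ↔ Preserves x U' W' := by
  have h : ∀ A B A' B' : Submodule F V, A.map (Matrix.toLin' (g : Matrix (Fin n) (Fin n) F)) = A' →
      B.map (Matrix.toLin' (g : Matrix (Fin n) (Fin n) F)) = B' →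
      (A.map (Matrix.toLin' ((g⁻¹ * x * g : GL (Fin n) F) : Matrix (Fin n) (Fin n) F)) = B ↔
        A'.map (Matrix.toLin' (x : Matrix (Fin n) (Fin n) F)) = B') := by
    intro A B A' B' hA hB
    rw [mul_assoc, map_toLin_mul, map_toLin_mul, hA, ← hB]
    constructor <;> intro e
    · rw [← e, ← map_toLin_mul, mul_inv_cancel, map_toLin_one]
    · rw [e, ← map_toLin_mul, inv_mul_cancel, map_toLin_one]
  rw [Preserves, Preserves, h _ _ _ _ hU hU, h _ _ _ _ hW hW, h _ _ _ _ hU hW, h _ _ _ _ hW hU]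

theorem perm_two (σ : Equiv.Perm (Fin 2)) : σ = 1 ∨ σ = Equiv.swap 0 1 := by
  revert σ; decide

theorem mem_stabilizer_iff {D : Fin 2 → Submodule F V} {x : GL (Fin n) F} :
    x ∈ Geo.decompositionStabilizer D ↔ Preserves x (D 0) (D 1) := by
  constructor
  · rintro ⟨σ, hσ⟩
    rcases perm_two σ with rfl | rfl
    · exact Or.inl ⟨by simpa using hσ 0, by simpa using hσ 1⟩
    · exact Or.inr ⟨by simpa using hσ 0, by simpa using hσ 1⟩
  · rintro (⟨h0, h1⟩ | ⟨h0, h1⟩)
    · refine ⟨1, fun i => ?_⟩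
      fin_cases i <;> simpa
    · refine ⟨Equiv.swap 0 1, fun i => ?_⟩
      fin_cases i <;> simpa

theorem polar_of_decomp {k : ℕ} {D : Fin 2 → Submodule F V} (hD : Geo.IsMDecomposition k D)
    (hDs : ∀ i, Geo.IsTotallySingularFor (hermForm n F q) (D i)) : Polar q (D 0) (D 1) := by
  refine ⟨⟨?_, ?_⟩, hDs 0, hDs 1⟩
  · exact hD.indep.pairwiseDisjoint (by decide : (0 : Fin 2) ≠ 1)
  · rw [codisjoint_iff, eq_top_iff, ← hD.iSup_eq_top]
    exact iSup_le fun i => by fin_cases i <;> simp

variable [Fintype F]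

/-- Coordinates adapted to a pair. -/
structure Frame (q : ℕ) (U W : Submodule F (Fin n → F)) (m : ℕ) where
  map : (Fin m ⊕ Fin m → F) ≃ₗ[F] (Fin n → F)
  form : ∀ x y, hermForm n F q (map x) (map y) =
    ∑ a, (x (Sum.inl a) * y (Sum.inr a) ^ q + x (Sum.inr a) * y (Sum.inl a) ^ q)
  left : ∀ v, v ∈ U ↔ ∀ a, map.symm v (Sum.inr a) = 0
  right : ∀ v, v ∈ W ↔ ∀ a, map.symm v (Sum.inl a) = 0

theorem eq_zero_of_polar (hF : Fintype.card F = q ^ 2) {U W : Submodule F V} (hp : Polar q U W) {w : V} (hw : w ∈ W)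
    (h : ∀ u ∈ U, hermForm n F q w u = 0) : w = 0 := by
  refine herm_nondeg hF w fun v => ?_
  obtain ⟨u, hu, w', hw', rfl⟩ := Submodule.mem_sup.1 (hp.compl.sup_eq_top ▸ Submodule.mem_top : v ∈ U ⊔ W)
  rw [herm_add_right hF, h u hu, hp.right w hw w' hw', add_zero]

theorem finrank_le_polar (hF : Fintype.card F = q ^ 2) {U W : Submodule F V} (hp : Polar q U W) :
    finrank F W ≤ finrank F U := by
  let b := Module.finBasis F U
  let φ : W →ₗ[F] (Fin (finrank F U) → F) :=
    LinearMap.pi fun a => (hermLeft q (b a : V)).comp W.subtype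
  have hinj : Function.Injective φ := by
    rw [← LinearMap.ker_eq_bot, Submodule.eq_bot_iff]
    intro w hw
    refine Subtype.ext (eq_zero_of_polar hF hp w.2 fun u hu => ?_)
    have hb : ∀ a, hermForm n F q (w : V) (b a : V) = 0 := fun a => congrFun (LinearMap.mem_ker.1 hw) a
    obtain ⟨c, hc⟩ := (Submodule.mem_span_range_iff_exists_fun F).1
      (b.span_eq ▸ Submodule.mem_top : (⟨u, hu⟩ : U) ∈ Submodule.span F (Set.range b))
    have hc' : u = ∑ a, c a • (b a : V) := by
      simpa using (congrArg Subtype.val hc).symm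
    rw [hc', herm_sum_right hF]
    exact Finset.sum_eq_zero fun a _ => by rw [herm_smul_right, hb, mul_zero]
  simpa using LinearMap.finrank_le_finrank_of_injective hinj

theorem finrank_polar (hF : Fintype.card F = q ^ 2) {U W : Submodule F V} (hp : Polar q U W) :
    finrank F U = finrank F W ∧ 2 * finrank F U = n := by
  have h1 := finrank_le_polar hF hp
  have h2 := finrank_le_polar hF hp.symm
  have h3 := Submodule.finrank_add_eq_of_isCompl hp.compl
  rw [Module.finrank_fin_fun] at h3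
  omega

theorem exists_frame (hF : Fintype.card F = q ^ 2) {U W : Submodule F V} (hp : Polar q U W) (hm : n = 2 * m) :
    Nonempty (Frame q U W m) := by
  classical
  obtain ⟨hUW, hUn⟩ := finrank_polar hF hp
  let b : Basis (Fin m) F U := Module.finBasisOfFinrankEq F U (by omega)
  let φ : W →ₗ[F] (Fin m → F) := LinearMap.pi fun a => (hermLeft q (b a : V)).comp W.subtype
  have hinj : Function.Injective φ := by
    rw [← LinearMap.ker_eq_bot, Submodule.eq_bot_iff]
    intro w hw
    refine Subtype.ext (eq_zero_of_polar hF hp w.2 fun u hu => ?_)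
    have hb : ∀ a, hermForm n F q (w : V) (b a : V) = 0 := fun a => congrFun (LinearMap.mem_ker.1 hw) a
    obtain ⟨c, hc⟩ := (Submodule.mem_span_range_iff_exists_fun F).1
      (b.span_eq ▸ Submodule.mem_top : (⟨u, hu⟩ : U) ∈ Submodule.span F (Set.range b))
    have hc' : u = ∑ a, c a • (b a : V) := by simpa using (congrArg Subtype.val hc).symm
    rw [hc', herm_sum_right hF]
    exact Finset.sum_eq_zero fun a _ => by rw [herm_smul_right, hb, mul_zero]
  let e : W ≃ₗ[F] (Fin m → F) := LinearEquiv.ofInjectiveOfFinrankEq φ hinj (by simp; omega)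
  have he : ∀ (w : W) a, hermForm n F q (w : V) (b a : V) = e w a := fun w a => rfl
  let P : (Fin m ⊕ Fin m → F) ≃ₗ[F] V :=
    (LinearEquiv.sumArrowLequivProdArrow (Fin m) (Fin m) F F).trans
      ((b.equivFun.symm.prodCongr e.symm).trans (Submodule.prodEquivOfIsCompl U W hp.compl))
  have hP : ∀ x, P x = ((b.equivFun.symm (x ∘ Sum.inl) : U) : V) + ((e.symm (x ∘ Sum.inr) : W) : V) := fun x => by
    simp [P, Submodule.coe_prodEquivOfIsCompl' U W hp.compl]; rfl
  have hsymm : ∀ v, v = ((b.equivFun.symm (P.symm v ∘ Sum.inl) : U) : V) +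
      ((e.symm (P.symm v ∘ Sum.inr) : W) : V) := fun v => by rw [← hP, LinearEquiv.apply_symm_apply]
  have hwu : ∀ (w : W) (c : Fin m → F),
      hermForm n F q (w : V) ((b.equivFun.symm c : U) : V) = ∑ a, e w a * c a ^ q := fun w c => by
    rw [Module.Basis.equivFun_symm_apply, Submodule.coe_sum, herm_sum_right hF]
    exact Finset.sum_congr rfl fun a _ => by rw [Submodule.coe_smul, herm_smul_right, he, mul_comm]
  refine ⟨⟨P, fun x y => ?_, fun v => ⟨fun hv a => ?_, fun h => ?_⟩, fun v => ⟨fun hv a => ?_, fun h => ?_⟩⟩⟩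
  · rw [hP, hP, herm_add_left, herm_add_right hF, herm_add_right hF, hp.left _ (Subtype.coe_prop _) _ (Subtype.coe_prop _),
      hp.right _ (Subtype.coe_prop _) _ (Subtype.coe_prop _), zero_add, add_zero,
      herm_conj hF _ ((b.equivFun.symm (x ∘ Sum.inl) : U) : V), hwu, hwu, sum_pow_q hF, Finset.sum_add_distrib]
    congr 1
    · refine Finset.sum_congr rfl fun a _ => ?_
      rw [mul_pow, pow_q_q hF, LinearEquiv.apply_symm_apply, mul_comm]
      rfl
    · refine Finset.sum_congr rfl fun a _ => ?_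
      rw [LinearEquiv.apply_symm_apply]
      rfl
  · have h1 : ((e.symm (P.symm v ∘ Sum.inr) : W) : V) ∈ U := by
      have := U.sub_mem hv (Subtype.coe_prop (b.equivFun.symm (P.symm v ∘ Sum.inl)))
      nth_rw 1 [hsymm v] at this
      rwa [add_sub_cancel_left] at this
    have h2 := Submodule.disjoint_def.1 hp.compl.disjoint _ h1 (Subtype.coe_prop _)
    exact congrFun (show P.symm v ∘ Sum.inr = 0 by simpa using h2) a
  · rw [hsymm v, show P.symm v ∘ Sum.inr = 0 from funext h, map_zero, ZeroMemClass.coe_zero, add_zero]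
    exact Subtype.coe_prop _
  · have h1 : ((b.equivFun.symm (P.symm v ∘ Sum.inl) : U) : V) ∈ W := by
      have := W.sub_mem hv (Subtype.coe_prop (e.symm (P.symm v ∘ Sum.inr)))
      nth_rw 1 [hsymm v] at this
      rwa [add_sub_cancel_right] at this
    have h2 := Submodule.disjoint_def.1 hp.compl.disjoint _ (Subtype.coe_prop _) h1
    exact congrFun (show P.symm v ∘ Sum.inl = 0 from
      b.equivFun.symm.injective (by rw [map_zero]; exact Subtype.ext h2)) a
  · rw [hsymm v, show P.symm v ∘ Sum.inl = 0 from funext h, map_zero, ZeroMemClass.coe_zero, zero_add]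
    exact Subtype.coe_prop _

/-- The block map of `A` in adapted coordinates. -/
noncomputable def blockLin (hF : Fintype.card F = q ^ 2) (A : GL (Fin m) F) :
    (Fin m ⊕ Fin m → F) →ₗ[F] (Fin m ⊕ Fin m → F) :=
  Matrix.toLin' (Matrix.fromBlocks (A : Matrix (Fin m) (Fin m) F) 0 0
    ((conjHom hF).mapMatrix ((A⁻¹ : GL (Fin m) F) : Matrix (Fin m) (Fin m) F)ᵀ))

theorem blockLin_inl (hF : Fintype.card F = q ^ 2) (A : GL (Fin m) F) (x : Fin m ⊕ Fin m → F) (a : Fin m) :
    blockLin hF A x (Sum.inl a) = ((A : Matrix (Fin m) (Fin m) F) *ᵥ (x ∘ Sum.inl)) a := by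
  simp [blockLin, Matrix.fromBlocks_mulVec]

theorem blockLin_inr (hF : Fintype.card F = q ^ 2) (A : GL (Fin m) F) (x : Fin m ⊕ Fin m → F) (a : Fin m) :
    blockLin hF A x (Sum.inr a) =
      ((conjHom hF).mapMatrix ((A⁻¹ : GL (Fin m) F) : Matrix (Fin m) (Fin m) F)ᵀ *ᵥ (x ∘ Sum.inr)) a := by
  simp [blockLin, Matrix.fromBlocks_mulVec]

theorem det_blockLin (hF : Fintype.card F = q ^ 2) (A : GL (Fin m) F) :
    LinearMap.det (blockLin hF A) =
      (A : Matrix (Fin m) (Fin m) F).det * ((A : Matrix (Fin m) (Fin m) F).det ^ q)⁻¹ := by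
  rw [blockLin, LinearMap.det_toLin', Matrix.det_fromBlocks_zero₂₁, ← RingHom.map_det, Matrix.det_transpose,
    conjHom_apply, Matrix.coe_units_inv, Matrix.det_nonsing_inv, Ring.inverse_eq_inv', inv_pow]

theorem blockLin_form (hF : Fintype.card F = q ^ 2) (A : GL (Fin m) F) (x y : Fin m ⊕ Fin m → F) :
    ∑ a, (blockLin hF A x (Sum.inl a) * blockLin hF A y (Sum.inr a) ^ q +
        blockLin hF A x (Sum.inr a) * blockLin hF A y (Sum.inl a) ^ q) =
      ∑ a, (x (Sum.inl a) * y (Sum.inr a) ^ q + x (Sum.inr a) * y (Sum.inl a) ^ q) := by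
  have key : ∀ u v : Fin m → F, ∑ a, ((A : Matrix (Fin m) (Fin m) F) *ᵥ u) a *
      (((conjHom hF).mapMatrix ((A⁻¹ : GL (Fin m) F) : Matrix (Fin m) (Fin m) F)ᵀ) *ᵥ v) a ^ q =
      ∑ a, u a * v a ^ q := by
    intro u v
    have h1 : (fun a => (((conjHom hF).mapMatrix ((A⁻¹ : GL (Fin m) F) : Matrix (Fin m) (Fin m) F)ᵀ) *ᵥ v) a ^ q) =
        ((A⁻¹ : GL (Fin m) F) : Matrix (Fin m) (Fin m) F)ᵀ *ᵥ fun a => v a ^ q := by
      funext a
      simp only [Matrix.mulVec, dotProduct, sum_pow_q hF, mul_pow, RingHom.mapMatrix_apply, Matrix.map_apply,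
        conjHom_apply, pow_q_q hF]
    show ((A : Matrix (Fin m) (Fin m) F) *ᵥ u) ⬝ᵥ (fun a => _) = u ⬝ᵥ fun a => v a ^ q
    rw [h1, Matrix.dotProduct_mulVec, Matrix.vecMul_transpose, Matrix.mulVec_mulVec, Units.inv_mul,
      Matrix.one_mulVec]
  simp only [blockLin_inl, blockLin_inr, Finset.sum_add_distrib]
  refine congrArg₂ (· + ·) (key _ _) ?_
  have h2 := congrArg (fun t : F => t ^ q) (key (y ∘ Sum.inl) (x ∘ Sum.inr))
  simp only [sum_pow_q hF, mul_pow, pow_q_q hF] at h2
  simpa [mul_comm] using h2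

/-- An isometry carrying one frame to another, twisted by `A`. -/
theorem exists_transport (hF : Fintype.card F = q ^ 2) {U W U' W' : Submodule F V} (P : Frame q U W m)
    (P' : Frame q U' W' m) (A : GL (Fin m) F) :
    ∃ g ∈ GU n F q, U.map (Matrix.toLin' (g : Matrix (Fin n) (Fin n) F)) = U' ∧
      W.map (Matrix.toLin' (g : Matrix (Fin n) (Fin n) F)) = W' ∧
      Matrix.toLin' (g : Matrix (Fin n) (Fin n) F) =
        P'.map.toLinearMap.comp ((blockLin hF A).comp P.map.symm.toLinearMap) := by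
  set L : V →ₗ[F] V := P'.map.toLinearMap.comp ((blockLin hF A).comp P.map.symm.toLinearMap) with hL
  have hpres : ∀ u v, hermForm n F q (L u) (L v) = hermForm n F q u v := fun u v => by
    simp only [hL, LinearMap.comp_apply, LinearEquiv.coe_coe]
    rw [P'.form, blockLin_form, ← P.form, LinearEquiv.apply_symm_apply, LinearEquiv.apply_symm_apply]
  have hLinj : Function.Injective L := by
    rw [← LinearMap.ker_eq_bot, Submodule.eq_bot_iff]
    intro u hu
    exact herm_nondeg hF u fun v => by rw [← hpres, LinearMap.mem_ker.1 hu, herm_zero_left]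
  obtain ⟨g, hg⟩ : IsUnit (LinearMap.toMatrix' L) := by
    rw [Matrix.isUnit_iff_isUnit_det, LinearMap.det_toMatrix', ← LinearMap.isUnit_iff_isUnit_det,
      Module.End.isUnit_iff]
    exact ⟨hLinj, LinearMap.injective_iff_surjective.1 hLinj⟩
  have hgl : Matrix.toLin' (g : Matrix (Fin n) (Fin n) F) = L := by rw [hg, Matrix.toLin'_toMatrix']
  have hLs : Function.Surjective L := LinearMap.injective_iff_surjective.1 hLinj
  have hBinj : ∀ z, blockLin hF A z = 0 → z = 0 := fun z hz => by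
    have h1 : P.map z = 0 := hLinj (by simp [hL, hz])
    exact P.map.map_eq_zero_iff.1 h1
  have hLsymm : ∀ u, P'.map.symm (L u) = blockLin hF A (P.map.symm u) := fun u => by simp [hL]
  refine ⟨g, mem_GU.2 fun u v => ?_, ?_, ?_, hgl⟩
  · rw [← Matrix.toLin'_apply, ← Matrix.toLin'_apply, hgl, hpres]
  · rw [hgl]
    ext v
    refine ⟨?_, fun hv => ?_⟩
    · rintro ⟨u, hu, rfl⟩
      refine (P'.left _).2 fun a => ?_
      rw [hLsymm, blockLin_inr, show P.map.symm u ∘ Sum.inr = 0 from funext ((P.left u).1 hu), Matrix.mulVec_zero]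
      rfl
    · obtain ⟨u, rfl⟩ := hLs v
      refine ⟨u, (P.left u).2 fun a => ?_, rfl⟩
      have h0 := hBinj (Sum.elim 0 (P.map.symm u ∘ Sum.inr)) (funext fun c => by
        rcases c with c | c
        · simp [blockLin_inl]
        · rw [blockLin_inr, Sum.elim_comp_inr, ← blockLin_inr hF A (P.map.symm u), ← hLsymm]
          exact (P'.left _).1 hv c)
      exact congrFun h0 (Sum.inr a)
  · rw [hgl]
    ext v
    refine ⟨?_, fun hv => ?_⟩
    · rintro ⟨u, hu, rfl⟩
      refine (P'.right _).2 fun a => ?_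
      rw [hLsymm, blockLin_inl, show P.map.symm u ∘ Sum.inl = 0 from funext ((P.right u).1 hu), Matrix.mulVec_zero]
      rfl
    · obtain ⟨u, rfl⟩ := hLs v
      refine ⟨u, (P.right u).2 fun a => ?_, rfl⟩
      have h0 := hBinj (Sum.elim (P.map.symm u ∘ Sum.inl) 0) (funext fun c => by
        rcases c with c | c
        · rw [blockLin_inl, Sum.elim_comp_inl, ← blockLin_inl hF A (P.map.symm u), ← hLsymm]
          exact (P'.right _).1 hv c
        · simp [blockLin_inr])
      exact congrFun h0 (Sum.inl a)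

/-- Elements of norm one are `a / a ^ q`. -/
theorem exists_pow_sub_one (hF : Fintype.card F = q ^ 2) {δ : F} (hδ : δ ^ (q + 1) = 1) :
    ∃ a : Fˣ, (a : F) * ((a : F) ^ q)⁻¹ = δ := by
  classical
  have hq := two_le_q hF
  have hδ0 : δ ≠ 0 := fun h => by simp [h] at hδ
  set φ : Fˣ →* Fˣ := powMonoidHom (q - 1) with hφ
  set ψ : Fˣ →* Fˣ := powMonoidHom (q + 1) with hψ
  have hle : φ.range ≤ ψ.ker := by
    rintro _ ⟨a, rfl⟩
    show (a ^ (q - 1)) ^ (q + 1) = 1
    rw [← pow_mul, ← card_units_eq hF]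
    exact pow_card_eq_one'
  have hker : Nat.card ψ.ker = q + 1 := by
    rw [IsCyclic.card_powMonoidHom_ker, card_units_eq hF]
    exact Nat.gcd_eq_right (dvd_mul_left _ _)
  have hran : Nat.card φ.range = q + 1 := by
    have h := φ.ker.card_mul_index
    rw [Subgroup.index_ker, IsCyclic.card_powMonoidHom_ker, card_units_eq hF,
      Nat.gcd_eq_right (dvd_mul_right _ _)] at h
    exact Nat.eq_of_mul_eq_mul_left (by omega) h
  have heq : φ.range = ψ.ker := Subgroup.eq_of_le_of_card_ge hle (by omega)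
  have hmem : (Units.mk0 δ hδ0)⁻¹ ∈ φ.range := by
    rw [heq, inv_mem_iff]
    exact Units.ext hδ
  obtain ⟨a, ha⟩ := hmem
  have ha' : (a : F) ^ (q - 1) = δ⁻¹ := by simpa [hφ] using congrArg (Units.val) ha
  refine ⟨a, ?_⟩
  rw [show q = (q - 1) + 1 by omega, pow_succ, ha', _root_.mul_inv_rev, inv_inv, ← mul_assoc,
    mul_inv_cancel₀ a.ne_zero, one_mul]

/-- The special unitary group is transitive on pairs. -/
theorem exists_SU_transport (hF : Fintype.card F = q ^ 2) (hm : n = 2 * m) (hm0 : 0 < m) {U W U' W' : Submodule F V}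
    (hp : Polar q U W) (hp' : Polar q U' W') :
    ∃ g ∈ GU n F q ⊓ Geo.specialLinear (Fin n) F, U.map (Matrix.toLin' (g : Matrix (Fin n) (Fin n) F)) = U' ∧
      W.map (Matrix.toLin' (g : Matrix (Fin n) (Fin n) F)) = W' := by
  classical
  obtain ⟨P⟩ := exists_frame (m := m) hF hp hm
  obtain ⟨P'⟩ := exists_frame (m := m) hF hp' hm
  obtain ⟨g₀, hg₀, hU, hW, -⟩ := exists_transport hF P P' 1
  set δ := (g₀ : Matrix (Fin n) (Fin n) F).det with hδ
  have hδn : δ ^ (q + 1) = 1 := det_pow_succ_eq_one hF hg₀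
  obtain ⟨a, ha⟩ := exists_pow_sub_one hF (δ := δ⁻¹) (by rw [inv_pow, hδn, inv_one])
  let A : GL (Fin m) F := Matrix.GeneralLinearGroup.mk'' (Matrix.diagonal (Function.update (1 : Fin m → F) ⟨0, hm0⟩ (a : F))) (by
    rw [Matrix.det_diagonal, Finset.prod_update_of_mem (Finset.mem_univ _)]
    simp)
  have hA : (A : Matrix (Fin m) (Fin m) F).det = a := by
    show (Matrix.diagonal (Function.update (1 : Fin m → F) ⟨0, hm0⟩ (a : F))).det = a
    rw [Matrix.det_diagonal, Finset.prod_update_of_mem (Finset.mem_univ _)]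
    simp
  obtain ⟨h, hh, hhU, hhW, hhL⟩ := exists_transport hF P' P' A
  refine ⟨h * g₀, ⟨mul_mem hh hg₀, ?_⟩, by rw [map_toLin_mul, hU, hhU], by rw [map_toLin_mul, hW, hhW]⟩
  have hdet : (h : Matrix (Fin n) (Fin n) F).det = δ⁻¹ := by
    rw [← LinearMap.det_toLin', hhL, ← LinearMap.comp_assoc]
    show LinearMap.det ((P'.map.toLinearMap.comp (blockLin hF A)).comp P'.map.symm.toLinearMap) = _
    rw [LinearMap.comp_assoc, LinearMap.det_conj, det_blockLin, hA, ha]
  refine Units.ext ?_
  show ((h * g₀ : GL (Fin n) F) : Matrix (Fin n) (Fin n) F).det = 1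
  rw [Units.val_mul, Matrix.det_mul, hdet, ← hδ, inv_mul_cancel₀]
  intro h0
  simp [h0] at hδn

end CfsgLib.Classical.PrimeDerangement.PolarPairGU
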